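import Cfsg.Agent.Orthogonal.Eichler
import Cfsg.Agent.Orthogonal.Frame
import Cfsg.Agent.Orthogonal.Simple

/-!
Rational structures of quadratic forms over a subfield, and commutator calculus for Eichler transformations.
-/

set_option autoImplicit false

namespace Cfsg.Agent.H98.SubfieldOrth

open QuadraticMap Module Cfsg.Agent.Orthogonal

section Frames

variable {K W : Type*} [Field K] [Finite K] [AddCommGroup W] [Module K W] [FiniteDimensional K W]
  {q : QuadraticForm K W}

/-- A hyperbolic pair inside a nondegenerate subspace, with the nondegenerate rest. -/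
theorem exists_hyp (hq : Nondeg q) {C : Submodule K W} (hC : Nondeg (restr q C)) (hd : 3 ≤ finrank K C) :
    ∃ x ∈ C, ∃ z ∈ C, q x = 0 ∧ q z = 0 ∧ polar q x z = 1 ∧ x ≠ 0 ∧
      ∃ C' ≤ C, Nondeg (restr q C') ∧ finrank K C' + 2 = finrank K C ∧
        ∀ y ∈ C', polar q x y = 0 ∧ polar q z y = 0 := by
  obtain ⟨⟨x, hx⟩, hx0, hqx⟩ := hC.exists_singular hd
  obtain ⟨⟨z, hz⟩, hqz, hxz⟩ := hC.exists_partner hx0 hqx
  rw [polar_restr] at hxz
  rw [restr_apply] at hqx hqz
  have hP : Submodule.span K {x, z} ≤ C := by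
    rw [Submodule.span_le]
    rintro a (rfl | rfl) <;> assumption
  obtain ⟨h1, -, h2⟩ := hq.nondeg_inf_perp hC (nondeg_hyperbolic_plane hqx hqz hxz) hP
  refine ⟨x, hx, z, hz, hqx, hqz, hxz, fun h => hx0 (Subtype.ext h), _, inf_le_left, h1, ?_, fun y hy => ?_⟩
  · rw [finrank_hyperbolic_plane hqx hqz hxz] at h2; exact h2
  · exact (mem_perp_span_pair q).1 hy.2

omit [Finite K] in
/-- A hyperbolic pair through a given singular vector of a nondegenerate subspace. -/
theorem exists_hyp_at (hq : Nondeg q) {C : Submodule K W} (hC : Nondeg (restr q C)) {x : W} (hx : x ∈ C)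
    (hx0 : x ≠ 0) (hqx : q x = 0) :
    ∃ z ∈ C, q z = 0 ∧ polar q x z = 1 ∧
      ∃ C' ≤ C, Nondeg (restr q C') ∧ finrank K C' + 2 = finrank K C ∧
        (∀ y ∈ C', polar q x y = 0 ∧ polar q z y = 0) ∧
        ∀ y ∈ C, polar q x y = 0 → polar q z y = 0 → y ∈ C' := by
  obtain ⟨⟨z, hz⟩, hqz, hxz⟩ := hC.exists_partner (u := ⟨x, hx⟩) (fun h => hx0 (congrArg Subtype.val h))
    (by rw [restr_apply]; exact hqx)
  rw [polar_restr] at hxz
  rw [restr_apply] at hqz
  have hP : Submodule.span K {x, z} ≤ C := by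
    rw [Submodule.span_le]
    rintro a (rfl | rfl) <;> assumption
  obtain ⟨h1, -, h2⟩ := hq.nondeg_inf_perp hC (nondeg_hyperbolic_plane hqx hqz hxz) hP
  refine ⟨z, hz, hqz, hxz, _, inf_le_left, h1, ?_, fun y hy => (mem_perp_span_pair q).1 hy.2,
    fun y hy h h' => ⟨hy, (mem_perp_span_pair q).2 ⟨h, h'⟩⟩⟩
  rw [finrank_hyperbolic_plane hqx hqz hxz] at h2; exact h2

/-- Singular vectors of a nondegenerate subspace span it. -/
theorem le_of_singular {C : Submodule K W} (hC : Nondeg (restr q C)) (hd : 3 ≤ finrank K C) (S : Submodule K W)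
    (h : ∀ x ∈ C, q x = 0 → x ∈ S) : C ≤ S := by
  have := span_singular hC hd (S.comap C.subtype) fun x hx => h x x.2 (by rw [← restr_apply]; exact hx)
  intro x hx
  have h1 : (⟨x, hx⟩ : C) ∈ S.comap C.subtype := by rw [this]; exact Submodule.mem_top
  exact h1

end Frames

section Roots

variable {F V : Type*} [Field F] [AddCommGroup V] [Module F V] {Q : QuadraticForm F V} {X : Subgroup (O Q)}

/-- The Eichler transformation with centre `u` and vector `w` exists and lies in `X`. -/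
def SIn (X : Subgroup (O Q)) (u w : V) : Prop :=
  ∃ (hu : Q u = 0) (hw : polar Q u w = 0), sie u w hu hw ∈ X

theorem SIn.singular {u w : V} (h : SIn X u w) : Q u = 0 := h.1

theorem SIn.orth {u w : V} (h : SIn X u w) : polar Q u w = 0 := h.2.1

theorem SIn.congr {u w u' w' : V} (h : SIn X u w) (e1 : u = u') (e2 : w = w') : SIn X u' w' := e1 ▸ e2 ▸ h

theorem SIn.conj {u w : V} (h : SIn X u w) {g : O Q} (hg : g ∈ X) :
    SIn X ((g : V ≃ₗ[F] V) u) ((g : V ≃ₗ[F] V) w) := by
  obtain ⟨hu, hw, hm⟩ := h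
  refine ⟨by rw [O.map_app]; exact hu, by rw [O.polar_app]; exact hw, ?_⟩
  have := X.mul_mem (X.mul_mem hg hm) (X.inv_mem hg)
  rwa [sie_conj] at this

theorem SIn.add {u w w' : V} (h : SIn X u w) (h' : SIn X u w') : SIn X u (w + w') := by
  obtain ⟨hu, hw, hm⟩ := h
  obtain ⟨_, hw', hm'⟩ := h'
  refine ⟨hu, by rw [polar_add_right, hw, hw', add_zero], ?_⟩
  have := X.mul_mem hm hm'
  rwa [sie_mul] at this

theorem SIn.neg {u w : V} (h : SIn X u w) : SIn X u (-w) := by
  obtain ⟨hu, hw, hm⟩ := h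
  refine ⟨hu, by rw [polar_neg_right, hw, neg_zero], ?_⟩
  have := X.inv_mem hm
  rwa [sie_inv] at this

theorem SIn.sub {u w w' : V} (h : SIn X u w) (h' : SIn X u w') : SIn X u (w - w') := by
  rw [sub_eq_add_neg]; exact h.add h'.neg

theorem sIn_zero {u : V} (hu : Q u = 0) : SIn X u 0 :=
  ⟨hu, polar_zero_right .., by convert X.one_mem; exact O.ext_app fun x => by rw [sie_app]; simp⟩

theorem sIn_zero_left (w : V) : SIn X 0 w :=
  ⟨map_zero Q, polar_zero_left .., by convert X.one_mem; exact O.ext_app fun x => by rw [sie_app]; simp⟩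

theorem SIn.add_smul {u w : V} (h : SIn X u w) (a : F) : SIn X u (w + a • u) := by
  obtain ⟨hu, hw, hm⟩ := h
  refine ⟨hu, by rw [polar_add_right, polar_smul_right', polar_self', hw, hu]; ring, ?_⟩
  rw [sie_add_smul]; exact hm

theorem SIn.of_smul {u w : V} (h : SIn X u w) {a : F} (ha : a ≠ 0) : SIn X (a • u) (a⁻¹ • w) := by
  obtain ⟨hu, hw, hm⟩ := h
  refine ⟨by rw [qmap_smul, hu, mul_zero], by rw [polar_smul_left', polar_smul_right', hw]; ring, ?_⟩
  rw [sie_smul hu (by rw [polar_smul_right', hw, mul_zero])]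
  rwa [sie_congr _ _ hu hw rfl (smul_inv_smul₀ ha w)]

theorem SIn.smul_left {u w : V} {a : F} (h : SIn X u (a • w)) (ha : a ≠ 0) : SIn X (a • u) w := by
  have := h.of_smul ha
  rwa [inv_smul_smul₀ ha] at this

/-- A long root element does not depend on which vector of the pair is the centre. -/
theorem SIn.swap {u w : V} {a : F} (h : SIn X u (a • w)) (hw : Q w = 0) (huw : polar Q u w = 0) :
    SIn X w ((-a) • u) := by
  obtain ⟨hu, hw', hm⟩ := h
  refine ⟨hw, by rw [polar_smul_right', polar_comm, huw, mul_zero], ?_⟩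
  convert hm using 1
  refine O.ext_app fun x => ?_
  simp only [sie_app, polar_smul_left', qmap_smul, hw, hu]
  match_scalars <;> ring

/-- The basic commutator step. -/
theorem SIn.step {p b x x' z' : V} (h : SIn X p b) (h1 : SIn X x x') (h2 : SIn X z' x)
    (hx : Q x = 0) (hx' : Q x' = 0) (hpx : polar Q p x = 0) (hpx' : polar Q p x' = 0) (hpz : polar Q p z' = 0) :
    SIn X p ((polar Q x b * polar Q z' x') • x) := by
  obtain ⟨hQx, hxx', hm1⟩ := h1
  obtain ⟨hQz, hzx, hm2⟩ := h2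
  have e1 : (sie x x' hQx hxx' : V ≃ₗ[F] V) p = p :=
    sie_fix' _ _ (by rw [polar_comm]; exact hpx) (by rw [polar_comm]; exact hpx')
  have e2 : (sie z' x hQz hzx : V ≃ₗ[F] V) p = p :=
    sie_fix' _ _ (by rw [polar_comm]; exact hpz) (by rw [polar_comm]; exact hpx)
  have hm := (h.conj hm1).congr e1 rfl |>.sub h
  set m := (sie x x' hQx hxx' : V ≃ₗ[F] V) b - b with hmdef
  refine ((hm.conj hm2).congr e2 rfl |>.sub hm).congr rfl ?_
  simp only [hmdef, sie_app, hx', hx, polar_add_right, polar_sub_right, polar_smul_right', polar_self',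
    hzx, hxx']
  match_scalars <;> ring

end Roots

variable {F V : Type*} [Field F] [AddCommGroup V] [Module F V]

/-- A rational structure of a quadratic form over a subfield. -/
structure RatStr (Q : QuadraticForm F V) (F₀ : Subfield F) where
  V₀ : Submodule F₀ V
  Q₀ : QuadraticForm F₀ V₀
  coe : ∀ v : V₀, (Q₀ v : F) = Q v
  nondeg : Nondeg Q₀
  span_eq : Submodule.span F (V₀ : Set V) = ⊤
  finrank_eq : finrank F₀ V₀ = finrank F V

variable {Q : QuadraticForm F V} {F₀ : Subfield F} (R : RatStr Q F₀)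

namespace RatStr

theorem coe_smul (a : F₀) (v : R.V₀) : ((a • v : R.V₀) : V) = (a : F) • (v : V) := rfl

theorem polar_coe (u v : R.V₀) : ((polar R.Q₀ u v : F₀) : F) = polar Q (u : V) (v : V) := by
  simp only [polar, AddSubgroupClass.coe_sub, R.coe, Submodule.coe_add]

theorem sing {v : R.V₀} (h : R.Q₀ v = 0) : Q (v : V) = 0 := by rw [← R.coe, h, ZeroMemClass.coe_zero]

theorem orth {u v : R.V₀} (h : polar R.Q₀ u v = 0) : polar Q (u : V) (v : V) = 0 := by
  rw [← R.polar_coe, h, ZeroMemClass.coe_zero]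

theorem one {u v : R.V₀} (h : polar R.Q₀ u v = 1) : polar Q (u : V) (v : V) = 1 := by
  rw [← R.polar_coe, h, OneMemClass.coe_one]

theorem polar_mem (u v : R.V₀) : polar Q (u : V) (v : V) ∈ F₀ := by rw [← R.polar_coe]; exact SetLike.coe_mem _

/-- A vector orthogonal to all rational vectors vanishes. -/
theorem eq_zero_of_orth (hQ : Nondeg Q) {x : V} (h : ∀ v : R.V₀, polar Q x (v : V) = 0) : x = 0 := by
  refine hQ x fun y => ?_
  have hy : y ∈ Submodule.span F (R.V₀ : Set V) := R.span_eq ▸ Submodule.mem_top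
  induction hy using Submodule.span_induction with
  | mem z hz => exact h ⟨z, hz⟩
  | zero => exact polar_zero_right ..
  | add a b _ _ ha hb => rw [polar_add_right, ha, hb, add_zero]
  | smul c a _ ha => rw [polar_smul_right', ha, mul_zero]

/-- The rational structure is self-dual. -/
theorem mem_of_polar [FiniteDimensional F₀ R.V₀] (hQ : Nondeg Q) {x : V}
    (h : ∀ v : R.V₀, polar Q (v : V) x ∈ F₀) : x ∈ R.V₀ := by
  let l : R.V₀ →ₗ[F₀] F₀ :=
    { toFun := fun v => ⟨_, h v⟩
      map_add' := fun a b => Subtype.ext (by simp [polar_add_left])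
      map_smul' := fun a b => Subtype.ext (by simp [R.coe_smul, polar_smul_left']) }
  obtain ⟨w, hw⟩ := R.nondeg.exists_repr l
  have : x - (w : V) = 0 := R.eq_zero_of_orth hQ fun v => by
    rw [polar_sub_left, ← R.polar_coe, hw v, polar_comm (⇑Q) x]
    exact sub_self _
  rw [sub_eq_zero] at this
  exact this ▸ w.2

theorem finiteDimensional [Finite F] [FiniteDimensional F V] : FiniteDimensional F₀ R.V₀ :=
  haveI : Finite V := Module.finite_of_finite F
  Module.Finite.of_finite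

/-- An isometry maps the rational structure to a scalar multiple of itself. -/
def Stab (g : O Q) : Prop := ∃ c : F, c ≠ 0 ∧ ∀ v ∈ R.V₀, c⁻¹ • (g : V ≃ₗ[F] V) v ∈ R.V₀

/-- `X` contains the rational part of Ω and lies inside Ω. -/
structure Over (X : Subgroup (O Q)) : Prop where
  rat : ∀ s ∈ commutator (O Q), (∀ v ∈ R.V₀, (s : V ≃ₗ[F] V) v ∈ R.V₀) → s ∈ X
  le : X ≤ commutator (O Q)

/-- No long root element with rational plane and irrational parameter lies in `X`. -/
def NoNew (X : Subgroup (O Q)) : Prop :=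
  ∀ (c : F) (u w : R.V₀), u ≠ 0 → R.Q₀ u = 0 → R.Q₀ w = 0 → polar R.Q₀ u w = 0 → w ∉ Submodule.span F₀ {u} →
    SIn X (u : V) (c • (w : V)) → c ∈ F₀

theorem sie_rat (u w : R.V₀) (hu : Q (u : V) = 0) (hw : polar Q (u : V) (w : V) = 0) (v : V) (hv : v ∈ R.V₀) :
    (sie (u : V) (w : V) hu hw : V ≃ₗ[F] V) v ∈ R.V₀ := by
  rw [sie_app]
  have hc : polar Q (w : V) v - Q (w : V) * polar Q (u : V) v ∈ F₀ :=
    F₀.sub_mem (R.polar_mem w ⟨v, hv⟩) (F₀.mul_mem (by rw [← R.coe]; exact SetLike.coe_mem _)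
      (R.polar_mem u ⟨v, hv⟩))
  exact R.V₀.sub_mem (R.V₀.add_mem hv (R.V₀.smul_mem (⟨_, hc⟩ : F₀) u.2))
    (R.V₀.smul_mem (⟨_, R.polar_mem u ⟨v, hv⟩⟩ : F₀) w.2)

variable [Finite F] [FiniteDimensional F V]

theorem Over.sIn {X : Subgroup (O Q)} {R : RatStr Q F₀} (hX : R.Over X) (hQ : Nondeg Q) (hn : 5 ≤ finrank F V)
    {u w : R.V₀} (hu : R.Q₀ u = 0) (hw : polar R.Q₀ u w = 0) : SIn X (u : V) (w : V) :=
  ⟨R.sing hu, R.orth hw, hX.rat _ (sieGroup_eq_commutator hQ hn ▸ sie_mem _ _) (R.sie_rat u w _ _)⟩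

end RatStr

end Cfsg.Agent.H98.SubfieldOrth
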