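import Cfsg.Agent.H98.SubfieldOrth.OddEig

/-!
Odd characteristic: an overgroup element not preserving the rational structure yields a new parameter.
-/

set_option autoImplicit false

namespace Cfsg.Agent.H98.SubfieldOrth

open QuadraticMap Module Cfsg.Agent.Orthogonal

variable {F V : Type*} [Field F] [Finite F] [AddCommGroup V] [Module F V] [FiniteDimensional F V]
  {Q : QuadraticForm F V} {F₀ : Subfield F}

namespace RatStr

variable {R : RatStr Q F₀} {X : Subgroup (O Q)}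

/-- Multiply a rational involution by a reflection in a fixed vector. -/
theorem negation_step (h2 : (2 : F) ≠ 0) (s : O Q) (D : Submodule F₀ R.V₀) (hsR : R.RatEl s) (hss : s * s = 1)
    (hD : Nondeg (restr R.Q₀ D)) (hd : 2 ≤ finrank F₀ D) (hfixD : ∀ v ∈ D, (s : V ≃ₗ[F] V) v = v) :
    ∃ a ∈ D, R.Q₀ a = 1 ∧ R.RatEl (s * rO Q (a : V)) ∧ (s * rO Q (a : V)) * (s * rO Q (a : V)) = 1 ∧
      finrank F₀ (R.eig₀ (s * rO Q (a : V)) (-1)) = finrank F₀ (R.eig₀ s (-1)) + 1 ∧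
      (∀ v : R.V₀, (s : V ≃ₗ[F] V) v = v → polar R.Q₀ a v = 0 → ((s * rO Q (a : V) : O Q) : V ≃ₗ[F] V) v = v) ∧
      ∃ D' ≤ D, Nondeg (restr R.Q₀ D') ∧ finrank F₀ D' + 1 = finrank F₀ D ∧
        ∀ v ∈ D', ((s * rO Q (a : V) : O Q) : V ≃ₗ[F] V) v = v := by
  have := R.finiteDimensional
  obtain ⟨⟨a, haD⟩, ha⟩ := hD.exists_value hd 1
  change R.Q₀ a = 1 at ha
  have haQ : Q (a : V) = 1 := by rw [← R.coe, ha, OneMemClass.coe_one]
  have ha0 : a ≠ 0 := fun h => by rw [h, map_zero] at ha; exact zero_ne_one ha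
  have hcomm : s * rO Q (a : V) = rO Q (a : V) * s := by
    rw [← mul_inv_eq_iff_eq_mul, conj_rO, hfixD a haD]
  have hR' : R.RatEl (s * rO Q (a : V)) := hsR.mul (RatEl.rO a)
  have hinv : (s * rO Q (a : V)) * (s * rO Q (a : V)) = 1 := by
    nth_rw 1 [hcomm]
    rw [mul_assoc, ← mul_assoc s, hss, one_mul, rO_mul_self]
  have hfix' : ∀ v : R.V₀, (s : V ≃ₗ[F] V) v = v → polar R.Q₀ a v = 0 →
      ((s * rO Q (a : V) : O Q) : V ≃ₗ[F] V) v = v := fun v hv hav => by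
    rw [Subgroup.coe_mul, mul_app, rO_fix (R.orth hav), hv]
  have hP : Nondeg (restr R.Q₀ (Submodule.span F₀ {a})) := by
    rw [nondeg_restr_iff]
    refine eq_bot_iff.2 fun x hx => (Submodule.mem_bot _).2 ?_
    obtain ⟨c, rfl⟩ := Submodule.mem_span_singleton.1 hx.1
    have h := (mem_perp_span_singleton R.Q₀).1 hx.2
    rw [polar_smul_right', polar_self', ha, mul_one] at h
    have h20 : (2 : F₀) ≠ 0 := fun e => h2 (congrArg Subtype.val e)
    rw [(mul_eq_zero.1 h).resolve_right h20, zero_smul]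
  obtain ⟨hD', -, hdD'⟩ := R.nondeg.nondeg_inf_perp hD hP (by rwa [Submodule.span_singleton_le_iff_mem])
  rw [finrank_span_singleton ha0] at hdD'
  refine ⟨a, haD, ha, hR', hinv, ?_, hfix', _, inf_le_left, hD', hdD', fun v hv =>
    hfix' v (hfixD v hv.1) ((mem_perp_span_singleton R.Q₀).1 hv.2)⟩
  -- dimensions
  have hle : R.eig₀ s (-1) ⊔ Submodule.span F₀ {a} ≤ R.eig₀ (s * rO Q (a : V)) (-1) := by
    refine sup_le (fun v hv => ?_) ?_
    · refine R.mem_eig₀.2 ?_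
      rw [Subgroup.coe_mul, mul_app, rO_fix, R.mem_eig₀.1 hv]
      exact eig_orth h2 (Or.inl rfl) (mem_eig.2 (by rw [hfixD a haD, one_smul])) (mem_eig.2 (R.mem_eig₀.1 hv))
    · rw [Submodule.span_singleton_le_iff_mem, R.mem_eig₀, Subgroup.coe_mul, mul_app,
        rO_self (by rw [haQ]; exact one_ne_zero), map_neg, hfixD a haD, neg_one_smul]
  have hle' : R.eig₀ s 1 ⊓ perp R.Q₀ (Submodule.span F₀ {a}) ≤ R.eig₀ (s * rO Q (a : V)) 1 := fun v hv => by
    rw [R.mem_eig₀, one_smul]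
    exact hfix' v (by simpa using R.mem_eig₀.1 hv.1) ((mem_perp_span_singleton R.Q₀).1 hv.2)
  have haS : a ∉ R.eig₀ s (-1) := fun h => by
    have h' := R.mem_eig₀.1 h
    rw [hfixD a haD, neg_one_smul, eq_neg_iff_add_eq_zero, ← two_smul F] at h'
    exact ha0 (Subtype.ext ((smul_eq_zero.1 h').resolve_left h2))
  have d1 := Submodule.finrank_mono hle
  rw [Submodule.finrank_sup_span_singleton haS] at d1
  have d2 := Submodule.finrank_mono hle'
  have d3 := Submodule.finrank_sup_add_finrank_inf_eq (R.eig₀ s 1) (perp R.Q₀ (Submodule.span F₀ {a}))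
  have d3' := Submodule.finrank_le (R.eig₀ s 1 ⊔ perp R.Q₀ (Submodule.span F₀ {a}))
  have d4 := R.nondeg.finrank_perp_singleton ha0
  have d5 := finrank_eig_add h2 hss
  have d6 := finrank_eig_add h2 hinv
  rw [← finrank_eig₀ h2 hsR hss (Or.inl rfl), ← finrank_eig₀ h2 hsR hss (Or.inr rfl)] at d5
  rw [← finrank_eig₀ h2 hR' hinv (Or.inl rfl), ← finrank_eig₀ h2 hR' hinv (Or.inr rfl)] at d6
  have d7 : finrank F₀ R.V₀ = finrank F V := R.finrank_eq
  omega

/-- A rational involution of Ω negating a space of given even dimension inside a given rational subspace. -/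
theorem exists_negation (hQ : Nondeg Q) (h2 : (2 : F) ≠ 0) {C : Submodule F₀ R.V₀}
    (hC : Nondeg (restr R.Q₀ C)) : ∀ j : ℕ, 2 * j < finrank F₀ C →
    ∃ s : O Q, s ∈ commutator (O Q) ∧ R.RatEl s ∧ s * s = 1 ∧ finrank F₀ (R.eig₀ s (-1)) = 2 * j ∧
      (∀ v : R.V₀, v ∈ perp R.Q₀ C → (s : V ≃ₗ[F] V) v = v) ∧
      ∃ C' ≤ C, Nondeg (restr R.Q₀ C') ∧ finrank F₀ C' + 2 * j = finrank F₀ C ∧
        ∀ v ∈ C', (s : V ≃ₗ[F] V) v = v := by
  have := R.finiteDimensional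
  intro j
  induction j with
  | zero =>
    intro _
    refine ⟨1, one_mem _, ratEl_one, one_mul 1, ?_, fun v _ => rfl, C, le_rfl, hC, by omega, fun v _ => rfl⟩
    rw [mul_zero, Submodule.finrank_eq_zero]
    refine eq_bot_iff.2 fun v hv => (Submodule.mem_bot _).2 (Subtype.ext ?_)
    have h := R.mem_eig₀.1 hv
    rw [OneMemClass.coe_one, one_app, neg_smul, one_smul, eq_neg_iff_add_eq_zero, ← two_smul F] at h
    exact (smul_eq_zero.1 h).resolve_left h2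
  | succ j ih =>
    intro hj
    obtain ⟨s, hsc, hsR, hss, hdim, hfix, C₁, hC₁C, hC₁, hdC₁, hC₁fix⟩ := ih (by omega)
    obtain ⟨a, ha, haQ, hR₁, hi₁, hd₁, hf₁, D₁, hD₁C, hD₁, hdD₁, hD₁fix⟩ :=
      negation_step h2 s C₁ hsR hss hC₁ (by omega) hC₁fix
    obtain ⟨b, hb, hbQ, hR₂, hi₂, hd₂, hf₂, D₂, hD₂C, hD₂, hdD₂, hD₂fix⟩ :=
      negation_step h2 _ D₁ hR₁ hi₁ hD₁ (by omega) hD₁fix
    refine ⟨_, ?_, hR₂, hi₂, by omega, fun v hv => ?_, D₂, hD₂C.trans (hD₁C.trans hC₁C), hD₂, by omega, hD₂fix⟩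
    · rw [mul_assoc]
      exact mul_mem hsc (OrthMax.rO_mul_mem hQ (by rw [← R.coe, haQ]; simp)
        (by rw [← R.coe, ← R.coe, haQ, hbQ]))
    · exact hf₂ v (hf₁ v (hfix v hv) (hv a (hC₁C ha))) (hv b (hC₁C (hD₁C hb)))

variable (hQ : Nondeg Q) (h2 : (2 : F) ≠ 0) (hn : 13 ≤ finrank F V) (hX : R.Over X) (hT : R.NoNew X)
include hQ h2 hn hX hT

/-- An element carrying a rational involution to a rational one preserves the rational structure. -/
theorem stab_of_invol {g s w : O Q} (hg : g ∈ X) (hsR : R.RatEl s) (hs : s * s = 1) (hwR : R.RatEl w)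
    (hw : w * w = 1) (h : g * s = w * g) (hk1 : 3 ≤ finrank F₀ (R.eig₀ s (-1)))
    (hk2 : finrank F₀ (R.eig₀ s (-1)) + 3 ≤ finrank F V) : R.Stab g := by
  have := R.finiteDimensional
  have hsum := finrank_eig_add h2 hs
  have he : ∀ ε : F, ε = 1 ∨ ε = -1 → finrank F₀ (R.eig₀ w ε) = finrank F₀ (R.eig₀ s ε) := fun ε hε => by
    rw [finrank_eig₀ h2 hwR hw hε, finrank_eig₀ h2 hsR hs hε, finrank_eig_of_conj h]
  rw [← finrank_eig₀ h2 hsR hs (Or.inl rfl), ← finrank_eig₀ h2 hsR hs (Or.inr rfl)] at hsum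
  obtain ⟨ε, hε, hd3, hd5⟩ : ∃ ε : F, (ε = 1 ∨ ε = -1) ∧ 3 ≤ finrank F₀ (R.eig₀ s ε) ∧
      5 ≤ finrank F₀ (R.eig₀ w (-ε)) := by
    by_cases hk : finrank F₀ (R.eig₀ s (-1)) + 5 ≤ finrank F V
    · exact ⟨-1, Or.inr rfl, hk1, by rw [neg_neg, he 1 (Or.inl rfl)]; omega⟩
    · exact ⟨1, Or.inl rfl, by omega, by rw [he (-1) (Or.inr rfl)]; omega⟩
  obtain ⟨⟨y, hyE⟩, hy0, hy⟩ := (nondeg_eig₀ h2 hsR hs hε).exists_singular hd3
  rw [restr_apply] at hy
  refine stab_of_perp hQ hn hX hT hg (fun e => hy0 (Subtype.ext e)) hy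
    (nondeg_eig₀ h2 hwR hw (by rcases hε with rfl | rfl <;> simp)) hd5 fun c hc => ?_
  rw [polar_comm]
  refine eig_orth h2 hε (mem_eig.2 ?_) (mem_eig.2 (R.mem_eig₀.1 hc))
  rw [app_conj h, R.mem_eig₀.1 hyE, map_smul]

omit [Finite F] [FiniteDimensional F V] h2 hn hX hT in
/-- An involution fixing the negated space of another involution commutes with it. -/
theorem commute_of_fix {s w : O Q} (hs : s * s = 1) (hw : w * w = 1)
    (hfix : ∀ v ∈ eig w (-1 : F), (s : V ≃ₗ[F] V) v = v) : Commute s w := by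
  have hmem : ∀ v : V, v - (w : V ≃ₗ[F] V) v ∈ eig w (-1 : F) := fun v => by
    rw [mem_eig, map_sub, invol_app hw, neg_one_smul, neg_sub]
  refine O.ext_app fun v => ?_
  set u := (s : V ≃ₗ[F] V) v - v with hu
  have hwu : (w : V ≃ₗ[F] V) u = u := by
    have h0 : u - (w : V ≃ₗ[F] V) u = 0 := hQ _ fun y => by
      rw [polar_sub_left, invol_polar hw, ← polar_sub_right, hu, polar_sub_left, invol_polar hs,
        hfix _ (hmem y), sub_self]
    exact (sub_eq_zero.1 h0).symm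
  rw [Subgroup.coe_mul, Subgroup.coe_mul, mul_app, mul_app]
  have h1 := hfix _ (hmem v)
  rw [map_sub] at h1
  rw [hu, map_sub] at hwu
  linear_combination (norm := module) -h1 - hwu

/-- One round: a further pair of conjugate rational involutions. -/
theorem round {g z₀' z₀ : O Q} (hg : g ∈ X) (hR₀' : R.RatEl z₀') (hi₀' : z₀' * z₀' = 1)
    (hR₀ : R.RatEl z₀) (hi₀ : z₀ * z₀ = 1) (hconj : g * z₀' = z₀ * g)
    (hk : finrank F₀ (R.eig₀ z₀' (-1)) ≤ 2) :
    ∃ z' z : O Q, R.RatEl z' ∧ z' * z' = 1 ∧ R.RatEl z ∧ z * z = 1 ∧ g * z' = z * g ∧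
      Commute z z₀ ∧ Commute z' z₀' ∧ (∀ v ∈ eig z₀ (-1 : F), (z : V ≃ₗ[F] V) v = v) ∧
      1 ≤ finrank F₀ (R.eig₀ z' (-1)) ∧ finrank F₀ (R.eig₀ z' (-1)) ≤ 10 := by
  have := R.finiteDimensional
  have hO : Finite (O Q) := finite_O
  have hd0 : finrank F₀ R.V₀ = finrank F V := R.finrank_eq
  have hsum' := finrank_eig_add h2 hi₀'
  have hsum := finrank_eig_add h2 hi₀
  have hk' : finrank F (eig z₀' (-1 : F)) ≤ 2 := by rwa [← finrank_eig₀ h2 hR₀' hi₀' (Or.inr rfl)]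
  have hk'' : finrank F (eig z₀ (-1 : F)) ≤ 2 := by rwa [← finrank_eig_of_conj hconj]
  obtain ⟨r, hrc, hrR, hrr, hdr, hrfix, -⟩ :=
    exists_negation hQ h2 (nondeg_eig₀ h2 hR₀' hi₀' (Or.inl rfl)) 3
      (by rw [finrank_eig₀ h2 hR₀' hi₀' (Or.inl rfl)]; omega)
  obtain ⟨t, htc, htR, htt, hdt, htfix, -⟩ :=
    exists_negation hQ h2 (nondeg_eig₀ h2 hR₀ hi₀ (Or.inl rfl)) 2
      (by rw [finrank_eig₀ h2 hR₀ hi₀ (Or.inl rfl)]; omega)
  have hfixneg : ∀ {s w : O Q}, R.RatEl w → w * w = 1 →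
      (∀ v : R.V₀, v ∈ perp R.Q₀ (R.eig₀ w 1) → (s : V ≃ₗ[F] V) v = v) →
      ∀ v ∈ eig w (-1 : F), (s : V ≃ₗ[F] V) v = v := by
    intro s w hwR hw hfix v hv
    have hle : eig w (-1 : F) ≤ eig s 1 := (eig_le_spanF h2 hwR hw (Or.inr rfl)).trans <| by
      rw [spanF, Submodule.span_le]
      rintro _ ⟨x, hx, rfl⟩
      rw [SetLike.mem_coe, mem_eig, one_smul]
      refine hfix x fun c hc => Subtype.ext ?_
      rw [R.polar_coe, ZeroMemClass.coe_zero]
      exact eig_orth h2 (Or.inl rfl) (mem_eig.2 (R.mem_eig₀.1 hc)) (mem_eig.2 (R.mem_eig₀.1 hx))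
    simpa using mem_eig.1 (hle hv)
  have hrf := hfixneg hR₀' hi₀' hrfix
  have htf := hfixneg hR₀ hi₀ htfix
  have hrX : r ∈ X := hX.rat r hrc hrR
  have htX : t ∈ X := hX.rat t htc htR
  set r' := g * r * g⁻¹ with hr'
  have hr'X : r' ∈ X := mul_mem (mul_mem hg hrX) (inv_mem hg)
  have hr'r' : r' * r' = 1 := by
    rw [hr', show g * r * g⁻¹ * (g * r * g⁻¹) = g * (r * r) * g⁻¹ by group, hrr, mul_one, mul_inv_cancel]
  have hr'f : ∀ v ∈ eig z₀ (-1 : F), (r' : V ≃ₗ[F] V) v = v := by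
    intro v hv
    have hv' : v ∈ eig (g * z₀' * g⁻¹) (-1 : F) := by rwa [hconj, mul_inv_cancel_right]
    rw [eig_conj] at hv'
    obtain ⟨x, hx, rfl⟩ := hv'
    rw [hr', Subgroup.coe_mul, Subgroup.coe_mul, mul_app, mul_app, LinearEquiv.coe_coe, Subgroup.coe_inv]
    show (g : V ≃ₗ[F] V) ((r : V ≃ₗ[F] V) ((g : V ≃ₗ[F] V).symm ((g : V ≃ₗ[F] V) x))) = _
    rw [LinearEquiv.symm_apply_apply, hrf x hx]
  -- dimensions of the negated spaces
  have edt : finrank F (eig t (-1 : F)) = 4 := by rw [← finrank_eig₀ h2 htR htt (Or.inr rfl)]; omega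
  have edr : finrank F (eig r' (-1 : F)) = 6 := by
    rw [hr', finrank_eig_conj, ← finrank_eig₀ h2 hrR hrr (Or.inr rfl)]; omega
  obtain ⟨j, hzz, hz1, hzt, hzr, hct, hcr⟩ := exists_central htt hr'r' fun k hk => by
    have h46 := finrank_eig_conj k t (-1 : F)
    rw [hk, edr, edt] at h46
    omega
  set z := (t * r') ^ j with hz
  have hzX : z ∈ X := pow_mem (mul_mem htX hr'X) j
  have hzf : ∀ v ∈ eig z₀ (-1 : F), (z : V ≃ₗ[F] V) v = v := by
    intro v hv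
    rw [hz]
    clear * - htf hr'f hv
    induction j with
    | zero => simp
    | succ i ih => rw [pow_succ, Subgroup.coe_mul, mul_app, Subgroup.coe_mul, mul_app, hr'f v hv, htf v hv, ih]
  -- the product with either involution has unequal eigenspaces
  have hdim : ∀ {w x : O Q}, (∃ k : O Q, k * t * k⁻¹ = w ∨ k * r' * k⁻¹ = w) → g * x = w * g ∨ x = w →
      x * x = 1 → finrank F (eig x (-1 : F)) ≤ 6 ∧ finrank F (eig x (1 : F)) ≠ finrank F (eig x (-1)) := by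
    intro w x ⟨k, hk⟩ hxw hxx
    have he : finrank F (eig x (-1 : F)) = finrank F (eig w (-1)) := by
      rcases hxw with h | rfl
      · exact finrank_eig_of_conj h _
      · rfl
    have hew : finrank F (eig w (-1 : F)) = 4 ∨ finrank F (eig w (-1 : F)) = 6 := by
      rcases hk with rfl | rfl
      · exact Or.inl (by rw [finrank_eig_conj, edt])
      · exact Or.inr (by rw [finrank_eig_conj, edr])
    have := finrank_eig_add h2 hxx
    omega
  have hsq : ∀ {a b : O Q}, Commute a b → a * a = 1 → b * b = 1 → a * b * (a * b) = 1 := fun hab ha hb => by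
    rw [hab.symm.mul_mul_mul_comm, ha, hb, one_mul]
  have hzt2 := hsq hzt hzz htt
  obtain ⟨hzt6, hztne⟩ := hdim hct (Or.inr rfl) hzt2
  -- z is rational
  have hzS : R.Stab z := stab_of_invol hQ h2 hn hX hT hzX htR htt htR htt hzt.eq (by omega) (by omega)
  have hztR := ratEl_of_unequal (by omega) (stab_mul hzS htR) hztne
  have hzR : R.RatEl z := by
    have h := hztR.mul htR
    rwa [mul_assoc, htt, mul_one] at h
  -- its conjugate is rational
  set z' := g⁻¹ * z * g with hz'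
  have hgz : g * z' = z * g := by rw [hz']; group
  have hz'X : z' ∈ X := mul_mem (mul_mem (inv_mem hg) hzX) hg
  have hz'z' : z' * z' = 1 := by
    rw [hz', show g⁻¹ * z * g * (g⁻¹ * z * g) = g⁻¹ * (z * z) * g by group, hzz, mul_one, inv_mul_cancel]
  have hz'r : Commute z' r := by
    show z' * r = r * z'
    rw [hz', show g⁻¹ * z * g * r = g⁻¹ * (z * r') * g by rw [hr']; group, hzr.eq, hr']
    group
  have hz'r2 := hsq hz'r hz'z' hrr
  obtain ⟨-, hz'rne⟩ := hdim (x := z' * r) hcr (Or.inl (by rw [hz', hr']; group)) hz'r2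
  have hz'S : R.Stab z' := stab_of_invol hQ h2 hn hX hT hz'X hrR hrr hrR hrr hz'r.eq (by omega) (by omega)
  have hz'R : R.RatEl z' := by
    have h := (ratEl_of_unequal (by omega) (stab_mul hz'S hrR) hz'rne).mul hrR
    rwa [mul_assoc, hrr, mul_one] at h
  have hzc : Commute z z₀ := commute_of_fix hQ hzz hi₀ hzf
  refine ⟨z', z, hz'R, hz'z', hzR, hzz, hgz, hzc, ?_, hzf, ?_⟩
  · show z' * z₀' = z₀' * z'
    have e : z₀' = g⁻¹ * z₀ * g := by rw [mul_assoc, ← hconj, inv_mul_cancel_left]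
    rw [hz', e, show g⁻¹ * z * g * (g⁻¹ * z₀ * g) = g⁻¹ * (z * z₀) * g by group, hzc.eq]
    group
  rw [finrank_eig₀ h2 hz'R hz'z' (Or.inr rfl), finrank_eig_of_conj hgz]
  constructor
  · by_contra h0
    have h00 : eig z (-1 : F) = ⊥ := Submodule.finrank_eq_zero.1 (by omega)
    refine hz1 (O.ext_app fun v => ?_)
    have hmem : v - (z : V ≃ₗ[F] V) v ∈ eig z (-1 : F) := by
      rw [mem_eig, map_sub, invol_app hzz, neg_one_smul, neg_sub]
    rw [h00, Submodule.mem_bot, sub_eq_zero] at hmem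
    exact hmem.symm
  · have hle : eig z (-1 : F) ⊓ eig t 1 ≤ eig (z * t) (-1) := fun v hv => by
      rw [mem_eig, Subgroup.coe_mul, mul_app, mem_eig.1 hv.2, one_smul, mem_eig.1 hv.1]
    have h1 := Submodule.finrank_mono hle
    have h3 := Submodule.finrank_sup_add_finrank_inf_eq (eig z (-1 : F)) (eig t 1)
    have h3' := Submodule.finrank_le (eig z (-1 : F) ⊔ eig t 1)
    have h4 := finrank_eig_add h2 htt
    omega

omit hQ hn hX hT in
/-- Combining two commuting pairs. -/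
theorem combine {g z₀' z₀ z' z : O Q} (hR₀' : R.RatEl z₀') (hi₀' : z₀' * z₀' = 1) (hR₀ : R.RatEl z₀)
    (hi₀ : z₀ * z₀ = 1) (hconj : g * z₀' = z₀ * g) (hR' : R.RatEl z') (hi' : z' * z' = 1) (hR : R.RatEl z)
    (hi : z * z = 1) (hgz : g * z' = z * g) (hc : Commute z z₀) (hc' : Commute z' z₀')
    (hzf : ∀ v ∈ eig z₀ (-1 : F), (z : V ≃ₗ[F] V) v = v) (hk1 : 1 ≤ finrank F₀ (R.eig₀ z' (-1))) :
    finrank F₀ (R.eig₀ z₀' (-1)) + 1 ≤ finrank F₀ (R.eig₀ (z' * z₀') (-1)) ∧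
      g * (z' * z₀') = z * z₀ * g ∧
      finrank F₀ (R.eig₀ (z' * z₀') (-1)) ≤ finrank F₀ (R.eig₀ z' (-1)) + finrank F₀ (R.eig₀ z₀' (-1)) := by
  have hconj' : g * (z' * z₀') = z * z₀ * g := by rw [← mul_assoc, hgz, mul_assoc, hconj, mul_assoc]
  have hi'' : z' * z₀' * (z' * z₀') = 1 := by rw [hc'.symm.mul_mul_mul_comm, hi', hi₀', one_mul]
  rw [finrank_eig₀ h2 (hR'.mul hR₀') hi'' (Or.inr rfl), finrank_eig_of_conj hconj',
    finrank_eig₀ h2 hR₀' hi₀' (Or.inr rfl), finrank_eig_of_conj hconj,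
    finrank_eig₀ h2 hR' hi' (Or.inr rfl), finrank_eig_of_conj hgz]
  rw [finrank_eig₀ h2 hR' hi' (Or.inr rfl), finrank_eig_of_conj hgz] at hk1
  have hle0 : eig z₀ (-1 : F) ≤ eig (z * z₀) (-1) := fun v hv => by
    rw [mem_eig, Subgroup.coe_mul, mul_app, mem_eig.1 hv, map_smul, hzf v hv]
  have hne : ¬ eig (z * z₀) (-1 : F) ≤ eig z₀ (-1) := fun hle => by
    have h0 : eig z (-1 : F) = ⊥ := eq_bot_iff.2 fun w hw => by
      have hw' := mem_eig.1 hw
      have hswap : (z : V ≃ₗ[F] V) ((z₀ : V ≃ₗ[F] V) w) = (z₀ : V ≃ₗ[F] V) ((z : V ≃ₗ[F] V) w) :=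
        congrArg (fun k : O Q => (k : V ≃ₗ[F] V) w) hc.eq
      set p := w + (z₀ : V ≃ₗ[F] V) w with hp
      set q := w - (z₀ : V ≃ₗ[F] V) w with hq
      have hqe : q ∈ eig z₀ (-1 : F) := by rw [mem_eig, hq, map_sub, invol_app hi₀, neg_one_smul, neg_sub]
      have hzq : (z : V ≃ₗ[F] V) q = (-1 : F) • q := by
        rw [hq, map_sub, hswap, hw', map_smul, smul_sub]
      rw [hzf q hqe, neg_one_smul, eq_neg_iff_add_eq_zero, ← two_smul F, smul_eq_zero] at hzq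
      have hq0 : q = 0 := hzq.resolve_left h2
      have hz0w : (z₀ : V ≃ₗ[F] V) w = w := by rw [hq, sub_eq_zero] at hq0; exact hq0.symm
      have hmem : w ∈ eig (z * z₀) (-1 : F) := by rw [mem_eig, Subgroup.coe_mul, mul_app, hz0w, hw']
      have h3 := mem_eig.1 (hle hmem)
      rw [hz0w, neg_one_smul, eq_neg_iff_add_eq_zero, ← two_smul F, smul_eq_zero] at h3
      exact (Submodule.mem_bot F).2 (h3.resolve_left h2)
    rw [h0, finrank_bot] at hk1
    omega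
  have hlt : eig z₀ (-1 : F) < eig (z * z₀) (-1) := lt_of_le_not_ge hle0 hne
  refine ⟨Submodule.finrank_lt_finrank_of_lt hlt, hconj', ?_⟩
  refine (Submodule.finrank_mono (t := eig z (-1 : F) ⊔ eig z₀ (-1)) fun v hv => ?_).trans
    (Submodule.finrank_add_le_finrank_add_finrank _ _)
  have hv' := mem_eig.1 hv
  rw [Subgroup.coe_mul, mul_app] at hv'
  have hz0v : (z₀ : V ≃ₗ[F] V) v = -(z : V ≃ₗ[F] V) v := by
    rw [← invol_app hi ((z₀ : V ≃ₗ[F] V) v), hv', map_smul, neg_one_smul]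
  refine Submodule.mem_sup.2 ⟨(2 : F)⁻¹ • (v - (z : V ≃ₗ[F] V) v), Submodule.smul_mem _ _ ?_,
    (2 : F)⁻¹ • (v + (z : V ≃ₗ[F] V) v), Submodule.smul_mem _ _ ?_, ?_⟩
  · rw [mem_eig, map_sub, invol_app hi, neg_one_smul, neg_sub]
  · have hswap : (z₀ : V ≃ₗ[F] V) ((z : V ≃ₗ[F] V) v) = (z : V ≃ₗ[F] V) ((z₀ : V ≃ₗ[F] V) v) :=
      (congrArg (fun k : O Q => (k : V ≃ₗ[F] V) v) hc.eq).symm
    rw [mem_eig, map_add, hswap, hz0v, map_neg, invol_app hi, neg_one_smul]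
    abel
  · rw [← smul_add, sub_add_add_cancel, ← two_smul F, inv_smul_smul₀ h2]

/-- No new parameters: every element of `X` preserves the rational structure up to a scalar. -/
theorem stab_of_noNew_odd {g : O Q} (hg : g ∈ X) : R.Stab g := by
  have := R.finiteDimensional
  suffices H : ∀ (m : ℕ) (z₀' z₀ : O Q), R.RatEl z₀' → z₀' * z₀' = 1 → R.RatEl z₀ → z₀ * z₀ = 1 →
      g * z₀' = z₀ * g → finrank F₀ (R.eig₀ z₀' (-1)) ≤ 2 → 2 ≤ finrank F₀ (R.eig₀ z₀' (-1)) + m →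
      R.Stab g by
    refine H 2 1 1 ratEl_one (one_mul 1) ratEl_one (one_mul 1) (by simp) (le_of_eq_of_le ?_ (Nat.zero_le 2)) (by omega)
    rw [Submodule.finrank_eq_zero]
    refine eq_bot_iff.2 fun v hv => (Submodule.mem_bot _).2 (Subtype.ext ?_)
    have h := R.mem_eig₀.1 hv
    rw [OneMemClass.coe_one, one_app, neg_smul, one_smul, eq_neg_iff_add_eq_zero, ← two_smul F] at h
    exact (smul_eq_zero.1 h).resolve_left h2
  intro m
  induction m with
  | zero =>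
    intro z₀' z₀ hR₀' hi₀' hR₀ hi₀ hconj hk hm
    obtain ⟨z', z, hR', hi', hR, hi, hgz, hc, hc', hzf, hk1, hk10⟩ := round hQ h2 hn hX hT hg hR₀' hi₀' hR₀ hi₀ hconj hk
    by_cases h3 : 3 ≤ finrank F₀ (R.eig₀ z' (-1))
    · exact stab_of_invol hQ h2 hn hX hT hg hR' hi' hR hi hgz h3 (by omega)
    obtain ⟨h1, h1'⟩ := combine (g := g) h2 hR₀' hi₀' hR₀ hi₀ hconj hR' hi' hR hi hgz hc hc' hzf hk1
    exact stab_of_invol hQ h2 hn hX hT hg (hR'.mul hR₀') (by rw [hc'.symm.mul_mul_mul_comm, hi', hi₀', one_mul])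
      (hR.mul hR₀) (by rw [hc.symm.mul_mul_mul_comm, hi, hi₀, one_mul]) h1'.1 (by omega) (by omega)
  | succ m ih =>
    intro z₀' z₀ hR₀' hi₀' hR₀ hi₀ hconj hk hm
    obtain ⟨z', z, hR', hi', hR, hi, hgz, hc, hc', hzf, hk1, hk10⟩ := round hQ h2 hn hX hT hg hR₀' hi₀' hR₀ hi₀ hconj hk
    by_cases h3 : 3 ≤ finrank F₀ (R.eig₀ z' (-1))
    · exact stab_of_invol hQ h2 hn hX hT hg hR' hi' hR hi hgz h3 (by omega)
    obtain ⟨h1, h1'⟩ := combine (g := g) h2 hR₀' hi₀' hR₀ hi₀ hconj hR' hi' hR hi hgz hc hc' hzf hk1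
    have hR'' := hR'.mul hR₀'
    have hi'' : z' * z₀' * (z' * z₀') = 1 := by rw [hc'.symm.mul_mul_mul_comm, hi', hi₀', one_mul]
    have hi3 : z * z₀ * (z * z₀) = 1 := by rw [hc.symm.mul_mul_mul_comm, hi, hi₀, one_mul]
    by_cases h4 : 3 ≤ finrank F₀ (R.eig₀ (z' * z₀') (-1))
    · exact stab_of_invol hQ h2 hn hX hT hg hR'' hi'' (hR.mul hR₀) hi3 h1'.1 h4 (by omega)
    · exact ih _ _ hR'' hi'' (hR.mul hR₀) hi3 h1'.1 (by omega) (by omega)

end RatStr

end Cfsg.Agent.H98.SubfieldOrth
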