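import Cfsg.Agent.H98.SubfieldOrth.Invol
import Cfsg.Agent.Orthogonal.Dickson

/-!
Characteristic two: an overgroup element not preserving the rational structure yields a new parameter.
-/

set_option autoImplicit false

namespace Cfsg.Agent.H98.SubfieldOrth

open QuadraticMap Module Cfsg.Agent.Orthogonal

variable {F V : Type*} [Field F] [AddCommGroup V] [Module F V] {Q : QuadraticForm F V} {F₀ : Subfield F}

/-- The space moved by an isometry. -/
def mov (s : O Q) : Submodule F V := LinearMap.range (((s : V ≃ₗ[F] V) : V →ₗ[F] V) - LinearMap.id)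

theorem mem_mov (s : O Q) (x : V) : (s : V ≃ₗ[F] V) x - x ∈ mov s := ⟨x, rfl⟩

theorem mov_le {s : O Q} {W : Submodule F V} (h : ∀ x, (s : V ≃ₗ[F] V) x - x ∈ W) : mov s ≤ W := by
  rintro _ ⟨x, rfl⟩; exact h x

theorem mov_mul_le (a b : O Q) : mov (a * b) ≤ mov a ⊔ mov b := mov_le fun x => by
  rw [Subgroup.coe_mul, mul_app, ← sub_add_sub_cancel _ ((b : V ≃ₗ[F] V) x) x]
  exact Submodule.add_mem_sup (mem_mov a _) (mem_mov b x)

theorem map_mov_le {g s w : O Q} (h : g * s = w * g) :
    (mov s).map ((g : V ≃ₗ[F] V) : V →ₗ[F] V) ≤ mov w := by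
  rintro _ ⟨_, ⟨x, rfl⟩, rfl⟩
  simp only [LinearMap.sub_apply, LinearEquiv.coe_coe, LinearMap.id_apply, map_sub]
  rw [← app_conj h]
  exact mem_mov w _

theorem mov_sie_le {u w : V} (hu : Q u = 0) (hw : polar Q u w = 0) : mov (sie u w hu hw) ≤ Submodule.span F {u, w} :=
  mov_le fun x => by
    rw [sie_app, add_sub_assoc, add_sub_cancel_left]
    exact Submodule.sub_mem _ (Submodule.smul_mem _ _ (Submodule.subset_span (Set.mem_insert _ _)))
      (Submodule.smul_mem _ _ (Submodule.subset_span (Set.mem_insert_of_mem _ rfl)))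

theorem sie_sq {u w : V} (h2 : (2 : F) = 0) (hu : Q u = 0) (hw : polar Q u w = 0) :
    sie u w hu hw * sie u w hu hw = 1 := by
  rw [sie_mul]
  refine O.ext_app fun x => ?_
  have hw0 : w + w = 0 := by rw [← two_smul F w, h2, zero_smul]
  rw [sie_app]
  simp [hw0]

theorem finrank_mov_sie [FiniteDimensional F V] {u w : V} (hu : Q u = 0) (hw : polar Q u w = 0) :
    finrank F (mov (sie u w hu hw)) ≤ 2 := by
  classical
  refine (Submodule.finrank_mono (mov_sie_le hu hw)).trans ((finrank_span_le_card ({u, w} : Set V)).trans ?_)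
  rw [Set.toFinset_insert, Set.toFinset_singleton]
  exact Finset.card_le_two

theorem finrank_mov_conj [FiniteDimensional F V] {g s w : O Q} (h : g * s = w * g) :
    finrank F (mov s) ≤ finrank F (mov w) := by
  have := Submodule.finrank_mono (map_mov_le h)
  rwa [LinearEquiv.finrank_map_eq] at this

variable [Finite F] [FiniteDimensional F V]

namespace RatStr

variable {R : RatStr Q F₀} {X : Subgroup (O Q)}

/-- The rational vectors moved by a rational isometry. -/
def mov₀ {s : O Q} (hs : R.RatEl s) : Submodule F₀ R.V₀ :=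
  LinearMap.range ({ toFun := fun v => ⟨(s : V ≃ₗ[F] V) v - v, R.V₀.sub_mem (hs v v.2) v.2⟩
                     map_add' := fun a b => Subtype.ext (by simp [map_add, add_sub_add_comm])
                     map_smul' := fun a b => Subtype.ext (by simp [R.coe_smul, map_smul, smul_sub, Subfield.smul_def]) } :
    R.V₀ →ₗ[F₀] R.V₀)

omit [Finite F] [FiniteDimensional F V] in
theorem mov_eq_spanF {s : O Q} (hs : R.RatEl s) : mov s = R.spanF (mov₀ hs) := by
  refine le_antisymm (mov_le fun x => ?_) ?_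
  · have hx : x ∈ Submodule.span F (R.V₀ : Set V) := R.span_eq ▸ Submodule.mem_top
    induction hx using Submodule.span_induction with
    | mem z hz => exact coe_mem_spanF (v := ⟨_, R.V₀.sub_mem (hs z hz) hz⟩) ⟨⟨z, hz⟩, rfl⟩
    | zero => simp
    | add p q _ _ hp hq =>
      convert Submodule.add_mem _ hp hq using 1
      rw [map_add]; abel
    | smul c p _ hp =>
      convert Submodule.smul_mem _ c hp using 1
      rw [map_smul, smul_sub]
  · rw [spanF, Submodule.span_le]
    rintro _ ⟨_, ⟨v, rfl⟩, rfl⟩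
    exact mem_mov s v

variable (hQ : Nondeg Q) (h2 : (2 : F) = 0) (hn : 13 ≤ finrank F V) (hX : R.Over X) (hT : R.NoNew X)
include hQ h2 hn hX hT

/-- No new parameters: every element of `X` preserves the rational structure up to a scalar. -/
theorem stab_of_noNew_two {g : O Q} (hg : g ∈ X) : R.Stab g := by
  have := R.finiteDimensional
  have hO : Finite (O Q) := finite_O
  have hd0 : finrank F₀ R.V₀ = finrank F V := R.finrank_eq
  have h20 : (2 : F₀) = 0 := Subtype.ext h2
  have hsq : ∀ a : F₀, IsSquare a := isSquare_of_two_eq_zero h20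
  -- rational from stable
  have hratEl : ∀ {a : O Q}, R.Stab a → R.RatEl a := fun {a} ha => by
    obtain ⟨c, hc, h⟩ := ha
    refine ratEl_of_stab hc ?_ h
    obtain ⟨d, hd⟩ := hsq ⟨c ^ 2, stab_sq (by omega) hc h⟩
    have hd' : c ^ 2 = (d : F) * d := congrArg Subtype.val hd
    have : (c - d) * (c - d) = 0 := by linear_combination hd' + ((d : F) * d - c * d) * h2
    rw [mul_self_eq_zero, sub_eq_zero] at this
    exact this ▸ d.2
  -- a long and a short root involution
  obtain ⟨e, -, f, -, he, hf, hef, he0, C, -, hC, hdC, hCef⟩ :=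
    exists_hyp R.nondeg (nondeg_restr_top R.nondeg) (by rw [finrank_top]; omega)
  rw [finrank_top] at hdC
  obtain ⟨x, hxC, y, hyC, hx, hy, hxy, hx0, C', hC'le, hC', hdC', hC'xy⟩ := exists_hyp R.nondeg hC (by omega)
  set w := x + y with hwdef
  have hwC : w ∈ C := C.add_mem hxC hyC
  have hw : R.Q₀ w = 1 := by rw [hwdef, map_add_polar, hx, hy, hxy]; ring
  have hex : polar R.Q₀ e x = 0 := (hCef x hxC).1
  have hew : polar R.Q₀ e w = 0 := (hCef w hwC).1
  set r := sie (e : V) (x : V) (R.sing he) (R.orth hex) with hr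
  set t := sie (e : V) (w : V) (R.sing he) (R.orth hew) with ht
  have h5 : 5 ≤ finrank F V := by omega
  have hrX : r ∈ X := (hX.sIn hQ h5 he hex).2.2
  have htX : t ∈ X := (hX.sIn hQ h5 he hew).2.2
  have hrr : r * r = 1 := sie_sq h2 _ _
  have htt : t * t = 1 := sie_sq h2 _ _
  have her : (e : V) ∈ mov r := by
    have h := mem_mov r (y : V)
    rwa [hr, sie_app, R.one hxy, R.orth (hCef y hyC).1, R.sing hx, mul_zero, sub_zero, one_smul, zero_smul,
      sub_zero, add_sub_cancel_left] at h
  have het : (e : V) ∈ mov t := by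
    have h := mem_mov t (y : V)
    have hwy : polar Q (w : V) (y : V) = 1 := R.one (by
      rw [hwdef, polar_add_left, hxy, polar_self', hy]; ring)
    rwa [ht, sie_app, hwy, R.orth (hCef y hyC).1, mul_zero, sub_zero, one_smul, zero_smul,
      sub_zero, add_sub_cancel_left] at h
  -- the centralisers of the two involutions preserve the structure
  have hcr : ∀ {h : O Q}, h ∈ X → Commute h r → R.Stab h := fun {h} hh hc => by
    refine stab_of_perp hQ hn hX hT hh he0 he hC' (by omega) fun c hc' => ?_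
    obtain ⟨a, b, hab⟩ := Submodule.mem_span_pair.1
      (mov_sie_le _ _ (map_mov_le hc.eq ⟨_, her, rfl⟩))
    rw [LinearEquiv.coe_coe] at hab
    rw [← hab, polar_add_right, polar_smul_right', polar_smul_right', polar_comm,
      R.orth (hCef c (hC'le hc')).1, polar_comm, R.orth (hC'xy c hc').1]
    ring
  have hct : ∀ {h : O Q}, h ∈ X → Commute h t → R.Stab h := fun {h} hh hc => by
    refine stab_of_perp hQ hn hX hT hh he0 he hC (by omega) fun c hc' => ?_
    obtain ⟨a, b, hab⟩ := Submodule.mem_span_pair.1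
      (mov_sie_le _ _ (map_mov_le hc.eq ⟨_, het, rfl⟩))
    rw [LinearEquiv.coe_coe] at hab
    have hb : b = 0 := by
      have h0 : Q ((h : V ≃ₗ[F] V) e) = 0 := by rw [O.map_app, R.sing he]
      rw [← hab, map_add_polar, qmap_smul, qmap_smul, polar_smul_left', polar_smul_right', R.sing he,
        R.orth hew, ← R.coe, hw, OneMemClass.coe_one] at h0
      exact pow_eq_zero_iff two_ne_zero |>.1 (by linear_combination h0)
    rw [← hab, hb, zero_smul, add_zero, polar_smul_right', polar_comm, R.orth (hCef c hc').1, mul_zero]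
  set r' := g * r * g⁻¹ with hr'
  have hr'X : r' ∈ X := mul_mem (mul_mem hg hrX) (inv_mem hg)
  have hr'r' : r' * r' = 1 := by
    rw [hr', show g * r * g⁻¹ * (g * r * g⁻¹) = g * (r * r) * g⁻¹ by group, hrr, mul_one, mul_inv_cancel]
  obtain ⟨j, hzz, hz1, hzt, hzr, hconj, -⟩ := exists_central htt hr'r' fun k hk => by
    -- the two are not conjugate
    have h1 : (g⁻¹ * k) * t = r * (g⁻¹ * k) := by
      calc g⁻¹ * k * t = g⁻¹ * (k * t * k⁻¹) * k := by group
        _ = r * (g⁻¹ * k) := by rw [hk, hr']; group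
    set k' := g⁻¹ * k with hk'
    obtain ⟨a, b, hab⟩ := Submodule.mem_span_pair.1 (mov_sie_le _ _ (map_mov_le h1 ⟨_, het, rfl⟩))
    obtain ⟨v, hv, hwv⟩ : ∃ v : V, polar Q (e : V) v = 1 ∧ polar Q (w : V) v = 0 :=
      ⟨f, R.one hef, R.orth (by rw [polar_comm]; exact (hCef w hwC).2)⟩
    have hmem := mov_sie_le _ _ (map_mov_le h1 ⟨_, mem_mov t v, rfl⟩)
    rw [ht, sie_app, hv, hwv, zero_sub, mul_one, one_smul, add_sub_assoc, add_sub_cancel_left,
      LinearEquiv.coe_coe, map_sub, map_smul] at hmem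
    have hwspan : (k' : V ≃ₗ[F] V) (w : V) ∈ Submodule.span F {(e : V), (x : V)} := by
      have hke : (k' : V ≃ₗ[F] V) (e : V) ∈ Submodule.span F {(e : V), (x : V)} :=
        Submodule.mem_span_pair.2 ⟨a, b, hab⟩
      have := Submodule.sub_mem _ (Submodule.smul_mem _ (-Q (w : V)) hke) hmem
      rwa [sub_sub_cancel] at this
    obtain ⟨a', b', hab'⟩ := Submodule.mem_span_pair.1 hwspan
    have h0 := O.map_app k' (w : V)
    rw [← hab', map_add_polar, qmap_smul, qmap_smul, polar_smul_left', polar_smul_right', R.sing he, R.sing hx,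
      R.orth hex, ← R.coe w, hw, OneMemClass.coe_one] at h0
    simp at h0
  set z := (t * r') ^ j with hz
  have hzX : z ∈ X := pow_mem (mul_mem htX hr'X) j
  have hzR : R.RatEl z := hratEl (hct hzX hzt)
  set z' := g⁻¹ * z * g with hz'
  have hgz : g * z' = z * g := by rw [hz']; group
  have hgz2 : g⁻¹ * z = z' * g⁻¹ := by rw [hz']; group
  have hz'X : z' ∈ X := mul_mem (mul_mem (inv_mem hg) hzX) hg
  have hz'r : Commute z' r := by
    show z' * r = r * z'
    rw [hz', show g⁻¹ * z * g * r = g⁻¹ * (z * r') * g by rw [hr']; group, hzr.eq, hr']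
    group
  have hz'R : R.RatEl z' := hratEl (hcr hz'X hz'r)
  -- small moved space
  have hk4 : finrank F (mov z) ≤ 4 := by
    have h1 : finrank F (mov (z * t)) ≤ 2 := by
      obtain ⟨k, hk | hk⟩ := hconj
      · refine le_trans (finrank_mov_conj (g := k⁻¹) (w := t) ?_) (finrank_mov_sie _ _)
        rw [← hk]; group
      · refine le_trans (finrank_mov_conj (g := g⁻¹ * k⁻¹) (w := r) ?_) (finrank_mov_sie _ _)
        rw [← hk, hr']; group
    have h3 : finrank F (mov t) ≤ 2 := finrank_mov_sie _ _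
    have h := Submodule.finrank_mono (mov_mul_le (z * t) t)
    rw [mul_assoc, htt, mul_one] at h
    have := Submodule.finrank_add_le_finrank_add_finrank (mov (z * t)) (mov t)
    omega
  have hgen : reflGroup Q = ⊤ := reflGroup_eq_top hQ (Or.inr (by omega))
  have heven : Even (finrank F (mov z)) := by
    have h1 : dicksonSign z = 1 := by
      have := hX.le hzX
      rwa [commutator_eq_ker_dickson hQ hgen h2, MonoidHom.mem_ker, dickson_apply] at this
    have h3 : mov z = perp Q (fixSpace z) := range_sub_eq_perp_fixSpace hQ z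
    have h4 := hQ.finrank_add_perp (fixSpace z)
    rw [dicksonSign, neg_one_pow_eq_one_iff_even (by decide)] at h1
    rw [h3]
    obtain ⟨m, hm⟩ := h1
    exact ⟨finrank F V - m, by omega⟩
  have hpos : 2 ≤ finrank F (mov z) := by
    rcases Nat.eq_zero_or_pos (finrank F (mov z)) with h0 | h0
    · refine absurd (O.ext_app fun v => ?_) hz1
      have := mem_mov z v
      rw [Submodule.finrank_eq_zero.1 h0, Submodule.mem_bot, sub_eq_zero] at this
      exact this
    · obtain ⟨m, hm⟩ := heven; omega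
  have hz'z' : z' * z' = 1 := by
    rw [hz', show g⁻¹ * z * g * (g⁻¹ * z * g) = g⁻¹ * (z * z) * g by group, hzz, mul_one, inv_mul_cancel]
  have hiso : ∀ {s : O Q} (hs : R.RatEl s), s * s = 1 → ∀ a ∈ mov₀ hs, ∀ b ∈ mov₀ hs, polar R.Q₀ a b = 0 := by
    intro s hs hss a' ha' b' hb'
    obtain ⟨a, rfl⟩ := ha'
    obtain ⟨b, rfl⟩ := hb'
    refine Subtype.ext ?_
    rw [R.polar_coe, ZeroMemClass.coe_zero]
    show polar Q ((s : V ≃ₗ[F] V) a - a) ((s : V ≃ₗ[F] V) b - b) = 0
    rw [polar_sub_left, polar_sub_right, polar_sub_right, O.polar_app, ← invol_polar hss]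
    linear_combination (polar Q (a : V) (b : V) - polar Q ((s : V ≃ₗ[F] V) a) (b : V)) * h2
  -- a singular rational vector moved by the preimage
  have hk' : finrank F₀ (mov₀ hz'R) = finrank F (mov z) := by
    rw [← finrank_spanF, ← mov_eq_spanF]
    exact le_antisymm (finrank_mov_conj hgz) (finrank_mov_conj hgz2)
  obtain ⟨u, hu, hu0, hus⟩ : ∃ u ∈ mov₀ hz'R, u ≠ 0 ∧ R.Q₀ u = 0 := by
    obtain ⟨a, ha, ha0⟩ := Submodule.exists_mem_ne_zero_of_ne_bot (p := mov₀ hz'R) fun h => by
      rw [h, finrank_bot] at hk'; omega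
    obtain ⟨b, hb, hba⟩ := SetLike.not_le_iff_exists.1 (show ¬ mov₀ hz'R ≤ Submodule.span F₀ {a} from fun h => by
      have := Submodule.finrank_mono h
      rw [finrank_span_singleton ha0] at this
      omega)
    by_cases hqa : R.Q₀ a = 0
    · exact ⟨a, ha, ha0, hqa⟩
    obtain ⟨d, hd⟩ := hsq (R.Q₀ b / R.Q₀ a)
    refine ⟨d • a + b, add_mem (Submodule.smul_mem _ _ ha) hb, fun h => hba ?_, ?_⟩
    · rw [eq_neg_of_add_eq_zero_right h]
      exact Submodule.neg_mem _ (Submodule.smul_mem _ _ (Submodule.mem_span_singleton_self a))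
    · rw [map_add_polar, qmap_smul, polar_smul_left', hiso hz'R hz'z' a ha b hb, pow_two d, ← hd,
        div_mul_cancel₀ _ hqa]
      linear_combination R.Q₀ b * h20
  -- a nondegenerate space orthogonal to the moved space
  set W := mov₀ hzR with hW
  have hdW : finrank F₀ W = finrank F (mov z) := by rw [← finrank_spanF, ← mov_eq_spanF]
  have hWle : W ≤ perp R.Q₀ W := fun a ha => (mem_perp R.Q₀).2 fun b hb => hiso hzR hzz b hb a ha
  obtain ⟨T, hT'⟩ := Submodule.exists_isCompl W
  have hdec : W ⊔ perp R.Q₀ W ⊓ T = perp R.Q₀ W := by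
    rw [inf_comm, ← sup_inf_assoc_of_le T hWle, hT'.sup_eq_top, top_inf_eq]
  have hCn : Nondeg (restr R.Q₀ (perp R.Q₀ W ⊓ T)) := by
    rw [nondeg_restr_iff]
    refine eq_bot_iff.2 fun a ha => ?_
    have haW : a ∈ perp R.Q₀ (perp R.Q₀ W) := by
      rw [← hdec, perp_sup]
      exact ⟨ha.1.1, ha.2⟩
    rw [R.nondeg.perp_perp] at haW
    exact hT'.disjoint.le_bot ⟨haW, ha.1.2⟩
  have hdims := Submodule.finrank_sup_add_finrank_inf_eq W (perp R.Q₀ W ⊓ T)
  rw [hdec, show W ⊓ (perp R.Q₀ W ⊓ T) = ⊥ from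
    eq_bot_iff.2 fun a ha => hT'.disjoint.le_bot ⟨ha.1, ha.2.2⟩, finrank_bot] at hdims
  have hperp := R.nondeg.finrank_add_perp W
  refine stab_of_perp hQ hn hX hT hg hu0 hus hCn (by omega) fun c hc => ?_
  have hmem : (g : V ≃ₗ[F] V) (u : V) ∈ mov z :=
    map_mov_le hgz ⟨_, (mov_eq_spanF hz'R).symm ▸ coe_mem_spanF hu, rfl⟩
  rw [mov_eq_spanF hzR, spanF] at hmem
  generalize (g : V ≃ₗ[F] V) (u : V) = p at hmem ⊢
  induction hmem using Submodule.span_induction with
  | mem a ha =>
    obtain ⟨a, ha, rfl⟩ := ha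
    rw [polar_comm]
    exact R.orth ((mem_perp R.Q₀).1 hc.1 a ha)
  | zero => exact polar_zero_right ..
  | add p q _ _ hp hq => rw [polar_add_right, hp, hq, add_zero]
  | smul s p _ hp => rw [polar_smul_right', hp, mul_zero]

end RatStr

end Cfsg.Agent.H98.SubfieldOrth
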