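import Cfsg.Agent.H98.SubfieldOrth.Param
import Cfsg.Agent.H98.SubfieldOrth.Odd
import Cfsg.Agent.H98.SubfieldOrth.Two

/-!
Maximality of subfield groups in Ω for quadratic forms in dimension at least thirteen.
-/

set_option autoImplicit false

namespace Cfsg.Agent.H98.SubfieldOrth

open QuadraticMap Module Cfsg.Agent.Orthogonal
open scoped Matrix

variable {F : Type*} [Field F] [Fintype F] {ι : Type} [Fintype ι] [DecidableEq ι]

/-- Subfields of prime index are maximal. -/
theorem subfield_cases {F₀ : Subfield F} {r : ℕ} (hr : r.Prime) (hcard : Fintype.card F = Nat.card F₀ ^ r)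
    (K : Subfield F) (h : F₀ ≤ K) : K = F₀ ∨ K = ⊤ := by
  let L : IntermediateField F₀ F := K.toIntermediateField fun x => h x.2
  have hfr : (Module.finrank F₀ F).Prime := by
    have h1 := Module.natCard_eq_pow_finrank (K := F₀) (V := F)
    rw [Nat.card_eq_fintype_card (α := F), hcard] at h1
    rwa [← Nat.pow_right_injective Finite.one_lt_card h1]
  have := IntermediateField.isSimpleOrder_of_finrank_prime F₀ F hfr
  rcases IsSimpleOrder.eq_bot_or_eq_top L with hL | hL
  · refine Or.inl (le_antisymm (fun x hx => ?_) h)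
    have hxL : x ∈ L := hx
    rw [hL, IntermediateField.mem_bot] at hxL
    obtain ⟨y, rfl⟩ := hxL
    exact y.2
  · exact Or.inr (eq_top_iff.2 fun x _ => show x ∈ L from hL ▸ IntermediateField.mem_top)

variable (F₀ : Subfield F) (P : GL ι F)

/-- The vectors with rational coordinates for `P`. -/
def ratPts : Submodule F₀ (ι → F) where
  carrier := {v | ∀ i, (((P⁻¹ : GL ι F) : Matrix ι ι F) *ᵥ v) i ∈ F₀}
  add_mem' {a b} ha hb i := by rw [Matrix.mulVec_add]; exact F₀.add_mem (ha i) (hb i)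
  zero_mem' i := by rw [Matrix.mulVec_zero]; exact F₀.zero_mem
  smul_mem' c a ha i := by
    rw [Subfield.smul_def, Matrix.mulVec_smul]
    exact F₀.mul_mem c.2 (ha i)

omit [Fintype F] in
theorem inv_mul_vec (v : ι → F) : ((P⁻¹ : GL ι F) : Matrix ι ι F) *ᵥ ((P : Matrix ι ι F) *ᵥ v) = v := by
  rw [Matrix.mulVec_mulVec, ← Units.val_mul, inv_mul_cancel, Units.val_one, Matrix.one_mulVec]

omit [Fintype F] in
theorem mul_inv_vec (v : ι → F) : (P : Matrix ι ι F) *ᵥ (((P⁻¹ : GL ι F) : Matrix ι ι F) *ᵥ v) = v := by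
  rw [Matrix.mulVec_mulVec, ← Units.val_mul, mul_inv_cancel, Units.val_one, Matrix.one_mulVec]

omit [Fintype F] in
theorem mem_subfieldSubgroup_iff (g : GL ι F) :
    g ∈ Cfsg.Geo.subfieldSubgroup F₀ P ↔
      ∃ c : F, c ≠ 0 ∧ ∀ v ∈ ratPts F₀ P, c⁻¹ • ((g : Matrix ι ι F) *ᵥ v) ∈ ratPts F₀ P := by
  constructor
  · intro hg
    obtain ⟨x, hx, rfl⟩ := Subgroup.mem_map.1 hg
    have : (Cfsg.Geo.scalars ι F).Normal := ⟨fun n hn y => by
      obtain ⟨c, hc⟩ := (Cfsg.Geo.mem_scalars_iff n).1 hn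
      have : y * n * y⁻¹ = n := by
        rw [mul_inv_eq_iff_eq_mul]
        exact Units.ext (by rw [Units.val_mul, Units.val_mul, hc]; simp)
      rwa [this]⟩
    obtain ⟨y, ⟨N, rfl⟩, z, hz, rfl⟩ := Subgroup.mem_sup_of_normal_right.1 hx
    obtain ⟨c, hc⟩ := (Cfsg.Geo.mem_scalars_iff z).1 hz
    refine ⟨c, c.ne_zero, fun v hv i => ?_⟩
    simp only [MulEquiv.coe_toMonoidHom, MulAut.conj_apply, Units.val_mul, ← Matrix.mulVec_mulVec, hc,
      Matrix.smul_mulVec, Matrix.one_mulVec, Matrix.mulVec_smul, smul_smul, inv_mul_cancel₀ c.ne_zero, one_smul,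
      inv_mul_vec]
    exact F₀.sum_mem fun j _ => F₀.mul_mem (N.val i j).2 (hv j)
  · rintro ⟨c, hc, h⟩
    set x : GL ι F := P⁻¹ * g * P with hx
    have hN : ∀ i j, c⁻¹ * (x : Matrix ι ι F) i j ∈ F₀ := fun i j => by
      have hcol : (P : Matrix ι ι F) *ᵥ Pi.single j 1 ∈ ratPts F₀ P := fun k => by
        rw [inv_mul_vec]
        rcases eq_or_ne k j with rfl | hk
        · simp [F₀.one_mem]
        · simp [Pi.single_eq_of_ne hk, F₀.zero_mem]
      have := h _ hcol i
      rw [Matrix.mulVec_smul, Matrix.mulVec_mulVec, Matrix.mulVec_mulVec, ← Units.val_mul, ← Units.val_mul,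
        ← hx] at this
      simpa [Matrix.mulVec_single_one] using this
    set N : Matrix ι ι F₀ := Matrix.of fun i j => ⟨_, hN i j⟩ with hNdef
    have hmap : N.map F₀.subtype = c⁻¹ • (x : Matrix ι ι F) := by ext i j; simp [hNdef]
    have hdet : N.det ≠ 0 := by
      intro h0
      have := congrArg F₀.subtype h0
      rw [RingHom.map_det, RingHom.mapMatrix_apply, hmap, Matrix.det_smul, map_zero] at this
      exact mul_ne_zero (pow_ne_zero _ (inv_ne_zero hc))
        ((Matrix.isUnit_iff_isUnit_det _).1 x.isUnit).ne_zero this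
    refine Subgroup.mem_map.2 ⟨x, ?_, by rw [hx]; simp [mul_assoc]⟩
    have hxeq : x = Matrix.GeneralLinearGroup.map (F₀.subtype : F₀ →+* F)
        (Matrix.GeneralLinearGroup.mkOfDetNeZero N hdet) *
        Units.map (Matrix.scalar ι : F →+* Matrix ι ι F).toMonoidHom (Units.mk0 c hc) := by
      refine Units.ext ?_
      rw [Units.val_mul]
      change (x : Matrix ι ι F) = N.map F₀.subtype * Matrix.scalar ι c
      rw [hmap, ← Matrix.smul_one_eq_diagonal c |>.trans (Matrix.scalar_apply (n := ι) c).symm,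
        mul_smul_comm, mul_one, smul_smul, mul_inv_cancel₀ hc, one_smul]
    rw [hxeq]
    exact Subgroup.mul_mem_sup ⟨_, rfl⟩ ⟨_, rfl⟩

variable (Q : QuadraticForm F (ι → F))

/-- The rational structure given by a change of basis. -/
theorem exists_ratStr (hQ : Nondeg Q) (hP : Cfsg.Geo.IsQuadFormRationalStructure (⇑Q) F₀ P) :
    ∃ R : RatStr Q F₀, R.V₀ = ratPts F₀ P := by
  classical
  let W := ratPts F₀ P
  have hval : ∀ v : W, Q (v : ι → F) ∈ F₀ := fun v => by
    have := hP (((P⁻¹ : GL ι F) : Matrix ι ι F) *ᵥ (v : ι → F)) v.2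
    rwa [mul_inv_vec] at this
  have hpol : ∀ u v : W, polar Q (u : ι → F) (v : ι → F) ∈ F₀ := fun u v => by
    have h1 := hval (u + v)
    rw [Submodule.coe_add] at h1
    exact F₀.sub_mem (F₀.sub_mem h1 (hval u)) (hval v)
  let q : W → F₀ := fun v => ⟨Q (v : ι → F), hval v⟩
  have hq : ∀ u v : W, ((polar q u v : F₀) : F) = polar Q (u : ι → F) (v : ι → F) := fun u v => by
    simp [polar, q]
  let Q₀ : QuadraticForm F₀ W := QuadraticMap.ofPolar q
    (fun a x => Subtype.ext (by
      show Q (((a • x : W) : ι → F)) = ((a * a : F₀) : F) * Q (x : ι → F)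
      rw [Submodule.coe_smul, Subfield.smul_def, QuadraticMap.map_smul, smul_eq_mul]
      rfl))
    (fun x y z => Subtype.ext (by
      rw [AddMemClass.coe_add, hq, hq, hq, Submodule.coe_add, polar_add_left]))
    (fun a x y => Subtype.ext (by
      rw [smul_eq_mul, Subring.coe_mul, hq, hq, Submodule.coe_smul, Subfield.smul_def, polar_smul_left']))
  have hspan : Submodule.span F (W : Set (ι → F)) = ⊤ := by
    rw [eq_top_iff]
    intro v _
    have hv : v = ∑ j, (((P⁻¹ : GL ι F) : Matrix ι ι F) *ᵥ v) j • ((P : Matrix ι ι F) *ᵥ Pi.single j 1) := by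
      simp only [← Matrix.mulVec_smul]
      rw [← Matrix.mulVec_sum, ← pi_eq_sum_univ', mul_inv_vec]
    rw [hv]
    refine Submodule.sum_mem _ fun j _ => Submodule.smul_mem _ _ (Submodule.subset_span fun k => ?_)
    rw [inv_mul_vec]
    rcases eq_or_ne k j with rfl | hk
    · simp [F₀.one_mem]
    · simp [Pi.single_eq_of_ne hk, F₀.zero_mem]
  let e : (ι → F₀) ≃ₗ[F₀] W :=
    { toFun := fun u => ⟨(P : Matrix ι ι F) *ᵥ fun i => (u i : F), fun i => by rw [inv_mul_vec]; exact (u i).2⟩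
      map_add' := fun a b => Subtype.ext (by
        show (P : Matrix ι ι F) *ᵥ (fun i => ((a + b) i : F)) = _
        rw [Submodule.coe_add, ← Matrix.mulVec_add]; rfl)
      map_smul' := fun a b => Subtype.ext (by
        show (P : Matrix ι ι F) *ᵥ (fun i => ((a • b) i : F)) = _
        rw [RingHom.id_apply, Submodule.coe_smul, Subfield.smul_def, ← Matrix.mulVec_smul]; rfl)
      invFun := fun v i => ⟨(((P⁻¹ : GL ι F) : Matrix ι ι F) *ᵥ (v : ι → F)) i, v.2 i⟩
      left_inv := fun u => funext fun i => Subtype.ext (by simp [inv_mul_vec])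
      right_inv := fun v => Subtype.ext (by simp [mul_inv_vec]) }
  refine ⟨⟨W, Q₀, fun _ => rfl, fun x hx => Subtype.ext ?_, hspan, ?_⟩, rfl⟩
  · refine hQ _ fun y => ?_
    have hy : y ∈ Submodule.span F (W : Set (ι → F)) := hspan ▸ Submodule.mem_top
    induction hy using Submodule.span_induction with
    | mem z hz => exact (hq x ⟨z, hz⟩).symm.trans (congrArg Subtype.val (hx ⟨z, hz⟩))
    | zero => exact polar_zero_right ..
    | add a b _ _ ha hb => rw [polar_add_right, ha, hb, add_zero]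
    | smul c a _ ha => rw [polar_smul_right', ha, mul_zero]
  · rw [← e.finrank_eq, Module.finrank_fintype_fun_eq_card, Module.finrank_fintype_fun_eq_card]

/-- Maximality of the subfield group in Ω. -/
theorem isMaximalIn_subfield (hQ : Nondeg Q) (hn : 13 ≤ Fintype.card ι) (r : ℕ) (hr : r.Prime)
    (hcard : Fintype.card F = Nat.card F₀ ^ r) (hP : Cfsg.Geo.IsQuadFormRationalStructure (⇑Q) F₀ P) :
    Cfsg.Geo.IsMaximalIn (Cfsg.Geo.omegaGL ⇑Q) (Cfsg.Geo.subfieldSubgroup F₀ P ⊓ Cfsg.Geo.omegaGL ⇑Q) := by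
  obtain ⟨R, hR⟩ := exists_ratStr F₀ P Q hQ hP
  have hd : 13 ≤ finrank F (ι → F) := by rwa [Module.finrank_fintype_fun_eq_card]
  have hd0 : finrank F₀ R.V₀ = finrank F (ι → F) := R.finrank_eq
  have hmax := subfield_cases hr hcard
  have := R.finiteDimensional
  have hmem : ∀ x : O Q, H96.om Q x ∈ Cfsg.Geo.subfieldSubgroup F₀ P ↔ R.Stab x := fun x => by
    rw [mem_subfieldSubgroup_iff]
    refine exists_congr fun c => and_congr_right fun _ => ?_
    rw [hR]
    refine forall₂_congr fun v _ => ?_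
    rw [H96.om_mulVec]
  refine ⟨lt_of_le_not_ge inf_le_right fun h => ?_, fun M hM hMG => ?_⟩
  · obtain ⟨e, -, f, -, he, hf, hef, he0, C, -, hC, hdC, hCef⟩ :=
      exists_hyp R.nondeg (nondeg_restr_top R.nondeg) (by rw [finrank_top]; omega)
    rw [finrank_top] at hdC
    obtain ⟨x, hxC, y, hyC, hx, -, hxy, -⟩ := exists_hyp R.nondeg hC (by omega)
    obtain ⟨a, ha⟩ : ∃ a : F, a ∉ F₀ := by
      by_contra hc
      push Not at hc
      have h1 : Nat.card F₀ = Fintype.card F := by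
        rw [← Nat.card_eq_fintype_card]
        exact Nat.card_congr (Equiv.subtypeUnivEquiv hc)
      rw [h1] at hcard
      have h3 := Nat.pow_lt_pow_right (Fintype.one_lt_card (α := F)) hr.one_lt
      rw [pow_one, ← hcard] at h3
      exact lt_irrefl _ h3
    have hex : polar Q (e : ι → F) (a • (x : ι → F)) = 0 := by
      rw [polar_smul_right', R.orth (hCef x hxC).1, mul_zero]
    set s := sie (e : ι → F) (a • (x : ι → F)) (R.sing he) hex with hs
    have hsS := (hmem s).1 (h ((H96.mem_omegaGL_iff Q _).2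
      ⟨s, OrthMax.sie_mem_commutator hQ (by omega) _ _, rfl⟩)).1
    obtain ⟨c, hc, hcV⟩ := hsS
    have h1 := hcV e e.2
    rw [hs, sie_fix] at h1
    have hcF : c⁻¹ ∈ F₀ := by
      have := R.polar_mem f ⟨_, h1⟩
      rwa [polar_smul_right', polar_comm, R.one hef, mul_one] at this
    have h3 : polar Q (f : ι → F) (c⁻¹ • (s : (ι → F) ≃ₗ[F] (ι → F)) y) ∈ F₀ := R.polar_mem f ⟨_, hcV y y.2⟩
    rw [hs, sie_app, polar_smul_left', R.one hxy, R.orth (hCef y hyC).1, mul_one, mul_zero, sub_zero, zero_smul,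
      sub_zero, polar_smul_right', polar_add_right, polar_smul_right', R.orth (hCef y hyC).2,
      polar_comm (⇑Q) (f : ι → F) (e : ι → F), R.one hef, zero_add, mul_one] at h3
    refine ha ?_
    have := F₀.mul_mem (F₀.inv_mem hcF) h3
    rwa [inv_inv, ← mul_assoc, mul_inv_cancel₀ hc, one_mul] at this
  by_cases hMS : M ≤ Cfsg.Geo.subfieldSubgroup F₀ P
  · exact Or.inl (le_antisymm (le_inf hMS hMG) hM)
  refine Or.inr (le_antisymm hMG ?_)
  set X := M.comap (H96.om Q) with hX'
  have hX : R.Over X := by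
    refine ⟨fun s hs hsR => hM ⟨(hmem s).2 ⟨1, one_ne_zero, fun v hv => ?_⟩,
      (H96.mem_omegaGL_iff Q _).2 ⟨s, hs, rfl⟩⟩, fun s hs => ?_⟩
    · rw [inv_one, one_smul]; exact hsR v hv
    · obtain ⟨y, hy, hye⟩ := (H96.mem_omegaGL_iff Q _).1 (hMG hs)
      exact H96.om_injective Q hye ▸ hy
  obtain ⟨g, hg, hgS⟩ := SetLike.not_le_iff_exists.1 hMS
  obtain ⟨x, hx, rfl⟩ := (H96.mem_omegaGL_iff Q g).1 (hMG hg)
  have hT : ¬ R.NoNew X := fun hT => hgS ((hmem x).2 (by
    by_cases h2 : (2 : F) = 0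
    · exact RatStr.stab_of_noNew_two hQ h2 hd hX hT hg
    · exact RatStr.stab_of_noNew_odd hQ h2 hd hX hT hg))
  have hle := RatStr.sieGroup_le_of_new hQ hd hX hmax hT
  intro g hg
  obtain ⟨y, hy, rfl⟩ := (H96.mem_omegaGL_iff Q g).1 hg
  rw [← sieGroup_eq_commutator hQ (by omega)] at hy
  exact hle hy

end Cfsg.Agent.H98.SubfieldOrth
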