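import Cfsg.Agent.H98.SubfieldOrth.Points
import Cfsg.Agent.H98.OrthMax.NondegAux

/-!
Rational involutions and dihedral groups.
-/

set_option autoImplicit false

namespace Cfsg.Agent.H98.SubfieldOrth

open QuadraticMap Module Cfsg.Agent.Orthogonal

/-- Two non-conjugate involutions are centralised by an involution of their dihedral group. -/
theorem exists_central {G : Type*} [Group G] [Finite G] {t t' : G} (ht : t * t = 1) (ht' : t' * t' = 1)
    (hne : ∀ g : G, g * t * g⁻¹ ≠ t') :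
    ∃ k : ℕ, (t * t') ^ k * (t * t') ^ k = 1 ∧ (t * t') ^ k ≠ 1 ∧ Commute ((t * t') ^ k) t ∧
      Commute ((t * t') ^ k) t' ∧
      (∃ g : G, g * t * g⁻¹ = (t * t') ^ k * t ∨ g * t' * g⁻¹ = (t * t') ^ k * t) ∧
      ∃ g : G, g * t * g⁻¹ = (t * t') ^ k * t' ∨ g * t' * g⁻¹ = (t * t') ^ k * t' := by
  set x := t * t' with hx
  have hti : t⁻¹ = t := inv_eq_of_mul_eq_one_right ht
  have hti' : t'⁻¹ = t' := inv_eq_of_mul_eq_one_right ht'
  have txt : t * x * t⁻¹ = x⁻¹ := by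
    rw [hx, _root_.mul_inv_rev, hti, hti', ← mul_assoc, ht, one_mul]
  have t'x : t' = t * x := by rw [hx, ← mul_assoc, ht, one_mul]
  have tz : ∀ j : ℕ, t * x ^ j = (x ^ j)⁻¹ * t := fun j => by
    rw [← inv_pow, ← txt, conj_pow, inv_mul_cancel_right]
  have conjt : ∀ j : ℕ, (x ^ j)⁻¹ * t * x ^ j = t * (x ^ j * x ^ j) := fun j => by
    rw [← mul_assoc, tz]
  have conjt' : ∀ j : ℕ, (x ^ j)⁻¹ * t' * x ^ j = t * (x ^ j * x ^ j) * x := fun j => by
    rw [t'x, ← mul_assoc, mul_assoc (_ * t), (Commute.self_pow x j).eq, ← mul_assoc, conjt]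
  rcases Nat.even_or_odd (orderOf x) with ⟨k, hk⟩ | ⟨k, hk⟩
  · refine ⟨k, ?_, pow_ne_one_of_lt_orderOf ?_ ?_, ?_⟩
    · rw [← pow_add, ← hk, pow_orderOf_eq_one]
    · have := (isOfFinOrder_of_finite x).orderOf_pos; omega
    · have := (isOfFinOrder_of_finite x).orderOf_pos; omega
    set z := x ^ k with hz
    have hzi : z⁻¹ = z := inv_eq_of_mul_eq_one_right (by rw [hz, ← pow_add, ← hk, pow_orderOf_eq_one])
    have hzt : t * z = z * t := by rw [hz, tz, ← hz, hzi]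
    have hzx : z * x = x * z := (Commute.pow_self x k).eq
    have hzt' : z * t' = t' * z := by
      rw [t'x]; exact ((show Commute z t from hzt.symm).mul_right hzx).eq
    refine ⟨hzt.symm, hzt', ?_⟩
    rcases Nat.even_or_odd k with ⟨j, hj⟩ | ⟨j, hj⟩
    · refine ⟨⟨(x ^ j)⁻¹, Or.inl ?_⟩, ⟨(x ^ j)⁻¹, Or.inr ?_⟩⟩
      · rw [inv_inv, conjt, ← pow_add, ← hj, ← hz, hzt]
      · rw [inv_inv, conjt', ← pow_add, ← hj, ← hz, hzt, mul_assoc, ← t'x]
    · refine ⟨⟨(x ^ j)⁻¹, Or.inr ?_⟩, ⟨(x ^ (j + 1))⁻¹, Or.inl ?_⟩⟩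
      · rw [inv_inv, conjt', mul_assoc, ← pow_add, ← pow_succ, ← two_mul, ← hj, ← hz, hzt]
      · rw [inv_inv, conjt, ← pow_add, show j + 1 + (j + 1) = k + 1 by omega, pow_succ, ← hz, ← mul_assoc, hzt,
          mul_assoc, ← t'x]
  · refine absurd ?_ (hne (x ^ (k + 1))⁻¹)
    rw [inv_inv, conjt, ← pow_add, show k + 1 + (k + 1) = orderOf x + 1 by omega, pow_succ, pow_orderOf_eq_one,
      one_mul, ← t'x]

variable {F V : Type*} [Field F] [AddCommGroup V] [Module F V] {Q : QuadraticForm F V} {F₀ : Subfield F}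

theorem finite_O [Finite F] [FiniteDimensional F V] : Finite (O Q) := by
  have : Finite V := Module.finite_of_finite F
  exact Finite.of_injective (fun g : O Q => ((g : V ≃ₗ[F] V) : V → V)) fun g h e => O.ext_app (congrFun e)

/-- An eigenspace. -/
def eig (s : O Q) (ε : F) : Submodule F V :=
  LinearMap.ker (((s : V ≃ₗ[F] V) : V →ₗ[F] V) - ε • LinearMap.id)

theorem mem_eig {s : O Q} {ε : F} {v : V} : v ∈ eig s ε ↔ (s : V ≃ₗ[F] V) v = ε • v := by
  simp [eig, sub_eq_zero]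

theorem eig_conj (g s : O Q) (ε : F) :
    eig (g * s * g⁻¹) ε = (eig s ε).map ((g : V ≃ₗ[F] V) : V →ₗ[F] V) := by
  ext v
  rw [Submodule.mem_map_equiv, mem_eig, mem_eig]
  simp only [Subgroup.coe_mul, Subgroup.coe_inv, mul_app]
  rw [← LinearEquiv.eq_symm_apply, map_smul]
  rfl

theorem finrank_eig_conj (g s : O Q) (ε : F) : finrank F (eig (g * s * g⁻¹) ε) = finrank F (eig s ε) := by
  rw [eig_conj]; exact LinearEquiv.finrank_map_eq _ _

theorem finrank_eig_of_conj {g s w : O Q} (h : g * s = w * g) (ε : F) :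
    finrank F (eig s ε) = finrank F (eig w ε) := by
  rw [← finrank_eig_conj g s ε, h, mul_inv_cancel_right]

theorem app_conj {g s w : O Q} (h : g * s = w * g) (v : V) :
    (w : V ≃ₗ[F] V) ((g : V ≃ₗ[F] V) v) = (g : V ≃ₗ[F] V) ((s : V ≃ₗ[F] V) v) := by
  rw [← mul_app, ← Subgroup.coe_mul, ← h]; rfl

theorem invol_app {s : O Q} (hs : s * s = 1) (v : V) : (s : V ≃ₗ[F] V) ((s : V ≃ₗ[F] V) v) = v := by
  rw [← mul_app, ← Subgroup.coe_mul, hs]; rfl

theorem invol_polar {s : O Q} (hs : s * s = 1) (u v : V) :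
    polar Q ((s : V ≃ₗ[F] V) u) v = polar Q u ((s : V ≃ₗ[F] V) v) := by
  rw [← O.polar_app s, invol_app hs]

theorem eig_orth {s : O Q} (h2 : (2 : F) ≠ 0) {u v : V} {ε : F} (hε : ε = 1 ∨ ε = -1) (hu : u ∈ eig s ε)
    (hv : v ∈ eig s (-ε)) : polar Q u v = 0 := by
  rw [mem_eig] at hu hv
  have := O.polar_app s u v
  rw [hu, hv, polar_smul_left', polar_smul_right'] at this
  refine (mul_eq_zero.1 (show (2 : F) * polar Q u v = 0 from ?_)).resolve_left h2
  rcases hε with rfl | rfl <;> linear_combination -this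

namespace RatStr

variable (R : RatStr Q F₀)

/-- The element maps the rational structure to itself. -/
def RatEl (s : O Q) : Prop := ∀ v ∈ R.V₀, (s : V ≃ₗ[F] V) v ∈ R.V₀

/-- The rational vectors of an eigenspace. -/
def eig₀ (s : O Q) (ε : F) : Submodule F₀ R.V₀ := ((eig s ε).restrictScalars F₀).comap R.V₀.subtype

theorem mem_eig₀ {s : O Q} {ε : F} {v : R.V₀} : v ∈ R.eig₀ s ε ↔ (s : V ≃ₗ[F] V) v = ε • (v : V) := by
  rw [eig₀, Submodule.mem_comap, Submodule.restrictScalars_mem, mem_eig]; rfl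

/-- The span of rational vectors. -/
def spanF (S : Submodule F₀ R.V₀) : Submodule F V := Submodule.span F ((fun v : R.V₀ => (v : V)) '' (S : Set R.V₀))

variable {R}

theorem ratEl_one : R.RatEl 1 := fun _ hv => hv

theorem RatEl.mul {a b : O Q} (ha : R.RatEl a) (hb : R.RatEl b) : R.RatEl (a * b) :=
  fun v hv => ha _ (hb v hv)

theorem RatEl.rO (a : R.V₀) : R.RatEl (rO Q (a : V)) := fun v hv => by
  rw [rO_app]
  have hc : (Q (a : V))⁻¹ * polar Q (a : V) v ∈ F₀ :=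
    F₀.mul_mem (F₀.inv_mem (by rw [← R.coe]; exact SetLike.coe_mem _)) (R.polar_mem a ⟨v, hv⟩)
  exact R.V₀.sub_mem hv (R.V₀.smul_mem (⟨_, hc⟩ : F₀) a.2)

theorem ext_rat {a b : O Q} (h : ∀ v : R.V₀, (a : V ≃ₗ[F] V) v = (b : V ≃ₗ[F] V) v) : a = b := by
  refine O.ext_app fun x => ?_
  have hx : x ∈ Submodule.span F (R.V₀ : Set V) := R.span_eq ▸ Submodule.mem_top
  induction hx using Submodule.span_induction with
  | mem z hz => exact h ⟨z, hz⟩
  | zero => simp
  | add p q _ _ hp hq => rw [map_add, map_add, hp, hq]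
  | smul c p _ hp => rw [map_smul, map_smul, hp]

theorem coe_mem_spanF {S : Submodule F₀ R.V₀} {v : R.V₀} (hv : v ∈ S) : (v : V) ∈ R.spanF S :=
  Submodule.subset_span ⟨v, hv, rfl⟩

theorem stab_mul {a b : O Q} (ha : R.Stab a) (hb : R.RatEl b) : R.Stab (a * b) := by
  obtain ⟨c, hc, h⟩ := ha
  exact ⟨c, hc, fun v hv => h _ (hb v hv)⟩

theorem ratEl_of_stab {a : O Q} {c : F} (hc : c ≠ 0) (hcF : c ∈ F₀)
    (h : ∀ v ∈ R.V₀, c⁻¹ • (a : V ≃ₗ[F] V) v ∈ R.V₀) : R.RatEl a := fun v hv => by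
  have := R.V₀.smul_mem (⟨c, hcF⟩ : F₀) (h v hv)
  rwa [Subfield.smul_def, smul_inv_smul₀ hc] at this

theorem stab_sq [FiniteDimensional F V] (hn : 0 < finrank F V) {a : O Q} {c : F}
    (hc : c ≠ 0) (h : ∀ v ∈ R.V₀, c⁻¹ • (a : V ≃ₗ[F] V) v ∈ R.V₀) : c ^ 2 ∈ F₀ := by
  obtain ⟨u, v, huv⟩ : ∃ u v : R.V₀, polar R.Q₀ u v ≠ 0 := by
    have : Nontrivial R.V₀ := Module.nontrivial_of_finrank_pos (R := F₀) (by rw [R.finrank_eq]; exact hn)
    obtain ⟨u, hu⟩ := exists_ne (0 : R.V₀)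
    exact ⟨u, R.nondeg.exists_polar_ne hu⟩
  have h1 := R.polar_mem ⟨_, h u u.2⟩ ⟨_, h v v.2⟩
  rw [polar_smul_left', polar_smul_right', O.polar_app] at h1
  have h0 : polar Q (u : V) (v : V) ≠ 0 := fun e => huv (Subtype.ext (by rw [R.polar_coe, e]; rfl))
  have := F₀.div_mem (R.polar_mem u v) h1
  convert this using 1
  field_simp

variable [Finite F] [FiniteDimensional F V]

theorem finrank_spanF_le (S : Submodule F₀ R.V₀) : finrank F (R.spanF S) ≤ finrank F₀ S := by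
  have := R.finiteDimensional
  set b := Module.finBasis F₀ S
  have hle : R.spanF S ≤ Submodule.span F (Set.range fun i => (((b i : S) : R.V₀) : V)) := by
    rw [spanF, Submodule.span_le]
    rintro _ ⟨v, hv, rfl⟩
    have hs := congrArg (fun x : S => ((x : R.V₀) : V)) (b.sum_repr ⟨v, hv⟩)
    simp only [AddSubmonoidClass.coe_finsetSum, R.coe_smul, SetLike.val_smul] at hs
    show (v : V) ∈ _
    rw [← hs]
    exact Submodule.sum_mem _ fun i _ => Submodule.smul_mem _ _ (Submodule.subset_span ⟨i, rfl⟩)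
  refine (Submodule.finrank_mono hle).trans ((finrank_range_le_card _).trans ?_)
  rw [Fintype.card_fin]

/-- Rational subspaces keep their dimension. -/
theorem finrank_spanF (S : Submodule F₀ R.V₀) : finrank F (R.spanF S) = finrank F₀ S := by
  have := R.finiteDimensional
  refine le_antisymm (finrank_spanF_le S) ?_
  obtain ⟨T, hT⟩ := Submodule.exists_isCompl S
  have htop : R.spanF S ⊔ R.spanF T = ⊤ := by
    rw [eq_top_iff, ← R.span_eq, Submodule.span_le]
    intro v hv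
    have : (⟨v, hv⟩ : R.V₀) ∈ S ⊔ T := by rw [hT.sup_eq_top]; trivial
    obtain ⟨s, hs, t, ht, hst⟩ := Submodule.mem_sup.1 this
    rw [← show (s : V) + (t : V) = v from congrArg Subtype.val hst]
    exact Submodule.add_mem_sup (coe_mem_spanF hs) (coe_mem_spanF ht)
  have h1 := Submodule.finrank_add_le_finrank_add_finrank (R.spanF S) (R.spanF T)
  rw [htop, finrank_top] at h1
  have h2 := Submodule.finrank_add_eq_of_isCompl hT
  have h3 := finrank_spanF_le T
  have h4 : finrank F₀ R.V₀ = finrank F V := R.finrank_eq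
  omega

end RatStr

end Cfsg.Agent.H98.SubfieldOrth
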