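import Cfsg.Agent.H98.SubfieldOrth.Invol

/-!
Eigenspaces of rational involutions in odd characteristic, and rationality of involutions with unequal eigenspaces.
-/

set_option autoImplicit false

namespace Cfsg.Agent.H98.SubfieldOrth

open QuadraticMap Module Cfsg.Agent.Orthogonal

variable {F V : Type*} [Field F] [Finite F] [AddCommGroup V] [Module F V] [FiniteDimensional F V]
  {Q : QuadraticForm F V} {F₀ : Subfield F}

omit [Finite F] in
theorem mem_of_pow_card (F₀ : Subfield F) [Fintype F₀] {x : F} (h : x ^ Fintype.card F₀ = x) : x ∈ F₀ := by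
  classical
  by_contra hx
  set P : Polynomial F := Polynomial.X ^ Fintype.card F₀ - Polynomial.X
  have hP : P ≠ 0 := FiniteField.X_pow_card_sub_X_ne_zero F Fintype.one_lt_card
  have hsub : insert x ((Finset.univ : Finset F₀).image fun a : F₀ => (a : F)) ⊆ P.roots.toFinset := by
    intro y hy
    rw [Multiset.mem_toFinset, Polynomial.mem_roots hP]
    rcases Finset.mem_insert.1 hy with rfl | hy
    · simp [P, h]
    · obtain ⟨a, -, rfl⟩ := Finset.mem_image.1 hy
      simp [P, ← SubmonoidClass.coe_pow, FiniteField.pow_card a]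
  have h1 := (Finset.card_le_card hsub).trans ((Multiset.toFinset_card_le _).trans (Polynomial.card_roots' P))
  rw [Finset.card_insert_of_notMem (by simpa using hx), Finset.card_image_of_injective _ Subtype.val_injective,
    Finset.card_univ, FiniteField.X_pow_card_sub_X_natDegree_eq F Fintype.one_lt_card] at h1
  omega

namespace RatStr

variable {R : RatStr Q F₀} {s : O Q} (h2 : (2 : F) ≠ 0)
include h2

omit [Finite F] [FiniteDimensional F V] in
theorem eig_le_spanF (hR : R.RatEl s) (hs : s * s = 1) {ε : F} (hε : ε = 1 ∨ ε = -1) :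
    eig s ε ≤ R.spanF (R.eig₀ s ε) := by
  have hεF : ε ∈ F₀ := by
    rcases hε with rfl | rfl
    · exact F₀.one_mem
    · exact F₀.neg_mem F₀.one_mem
  have hεε : ε * ε = 1 := by rcases hε with rfl | rfl <;> ring
  have key : ∀ v : V, v + ε • (s : V ≃ₗ[F] V) v ∈ R.spanF (R.eig₀ s ε) := by
    intro v
    have hv : v ∈ Submodule.span F (R.V₀ : Set V) := R.span_eq ▸ Submodule.mem_top
    induction hv using Submodule.span_induction with
    | mem z hz =>
      have hb : z + ε • (s : V ≃ₗ[F] V) z ∈ R.V₀ :=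
        R.V₀.add_mem hz (R.V₀.smul_mem (⟨ε, hεF⟩ : F₀) (hR z hz))
      refine coe_mem_spanF (v := ⟨_, hb⟩) (R.mem_eig₀.2 ?_)
      simp only [map_add, map_smul, invol_app hs, smul_add, smul_smul, hεε, one_smul, add_comm]
    | zero => simp
    | add p q _ _ hp hq =>
      convert Submodule.add_mem _ hp hq using 1
      rw [map_add, smul_add]; abel
    | smul c p _ hp =>
      convert Submodule.smul_mem _ c hp using 1
      rw [map_smul, smul_add, smul_comm]
  intro v hv
  have := Submodule.smul_mem _ (2 : F)⁻¹ (key v)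
  rwa [mem_eig.1 hv, smul_smul, hεε, one_smul, ← two_smul F, inv_smul_smul₀ h2] at this

omit [Finite F] [FiniteDimensional F V] h2 in
theorem spanF_le_eig {ε : F} : R.spanF (R.eig₀ s ε) ≤ eig s ε := by
  rw [spanF, Submodule.span_le]
  rintro _ ⟨v, hv, rfl⟩
  exact mem_eig.2 (R.mem_eig₀.1 hv)

theorem finrank_eig₀ (hR : R.RatEl s) (hs : s * s = 1) {ε : F} (hε : ε = 1 ∨ ε = -1) :
    finrank F₀ (R.eig₀ s ε) = finrank F (eig s ε) := by
  rw [← finrank_spanF, le_antisymm spanF_le_eig (eig_le_spanF h2 hR hs hε)]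

omit [Finite F] [FiniteDimensional F V] in
theorem nondeg_eig₀ (hR : R.RatEl s) (hs : s * s = 1) {ε : F} (hε : ε = 1 ∨ ε = -1) :
    Nondeg (restr R.Q₀ (R.eig₀ s ε)) := by
  have hεF : ε ∈ F₀ := by
    rcases hε with rfl | rfl
    · exact F₀.one_mem
    · exact F₀.neg_mem F₀.one_mem
  have hεε : ε * ε = 1 := by rcases hε with rfl | rfl <;> ring
  rw [nondeg_restr_iff]
  refine eq_bot_iff.2 fun x ⟨hxe, hxp⟩ => (Submodule.mem_bot _).2 (R.nondeg x fun v => Subtype.ext ?_)
  set w : R.V₀ := ⟨(s : V ≃ₗ[F] V) v, hR _ v.2⟩ with hw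
  have hmem : v + (⟨ε, hεF⟩ : F₀) • w ∈ R.eig₀ s ε := R.mem_eig₀.2 (by
    simp only [Submodule.coe_add, R.coe_smul, hw, map_add, map_smul, invol_app hs, smul_add, smul_smul, hεε,
      one_smul, add_comm])
  have h := congrArg Subtype.val (mem_perp R.Q₀ |>.1 hxp _ hmem)
  rw [R.polar_coe, ZeroMemClass.coe_zero, Submodule.coe_add, R.coe_smul, polar_add_left, polar_smul_left', hw,
    invol_polar hs, R.mem_eig₀.1 hxe, polar_smul_right', ← mul_assoc, hεε, one_mul, ← two_mul] at h
  rw [R.polar_coe, ZeroMemClass.coe_zero, polar_comm]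
  exact (mul_eq_zero.1 h).resolve_left h2

omit [Finite F] [FiniteDimensional F V] h2 in
theorem isCompl_eig (hs : s * s = 1) (h2 : (2 : F) ≠ 0) : IsCompl (eig s (1 : F)) (eig s (-1)) := by
  refine ⟨disjoint_iff.2 (eq_bot_iff.2 fun x hx => ?_), codisjoint_iff.2 (eq_top_iff.2 fun x _ => ?_)⟩
  · have h1 := (mem_eig.1 hx.1).symm.trans (mem_eig.1 hx.2)
    rw [one_smul, neg_smul, one_smul, eq_neg_iff_add_eq_zero, ← two_smul F] at h1
    exact (Submodule.mem_bot F).2 ((smul_eq_zero.1 h1).resolve_left h2)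
  · refine Submodule.mem_sup.2 ⟨(2 : F)⁻¹ • (x + (s : V ≃ₗ[F] V) x), ?_, (2 : F)⁻¹ • (x - (s : V ≃ₗ[F] V) x), ?_, ?_⟩
    · rw [mem_eig]; simp [invol_app hs, add_comm]
    · rw [mem_eig]; simp only [map_smul, map_sub, invol_app hs]; module
    · rw [← smul_add, add_add_sub_cancel, ← two_smul F, inv_smul_smul₀ h2]

omit [Finite F] in
theorem finrank_eig_add (hs : s * s = 1) :
    finrank F (eig s (1 : F)) + finrank F (eig s (-1)) = finrank F V :=
  Submodule.finrank_add_eq_of_isCompl (isCompl_eig hs h2)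

omit h2 in
/-- An involution with unequal eigenspaces that preserves the rational structure up to a scalar preserves it. -/
theorem ratEl_of_unequal (hn : 0 < finrank F V) {w : O Q} (hS : R.Stab w)
    (hne : finrank F (eig w (1 : F)) ≠ finrank F (eig w (-1))) : R.RatEl w := by
  obtain ⟨c, hc, h⟩ := hS
  by_cases hcF : c ∈ F₀
  · exact ratEl_of_stab hc hcF h
  exfalso
  refine hne ?_
  have hc2 := stab_sq hn hc h
  have := Fintype.ofFinite F₀
  have := R.finiteDimensional
  -- the automorphism fixing exactly the subfield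
  let σ := FiniteField.frobeniusAlgHom F₀ F
  have hσ : ∀ x : F, σ x = x ^ Fintype.card F₀ := fun x => rfl
  have hσc : σ c = -c := by
    have h1 : σ c * σ c = c * c := by
      rw [← map_mul, ← pow_two]
      exact σ.commutes ⟨c ^ 2, hc2⟩
    rcases mul_self_eq_mul_self_iff.1 h1 with h1 | h1
    · refine absurd ?_ hcF
      rw [hσ] at h1
      exact mem_of_pow_card F₀ h1
    · exact h1
  -- coordinates
  obtain ⟨b⟩ : Nonempty (Basis (Fin (finrank F V)) F₀ R.V₀) :=
    ⟨(Module.finBasis F₀ R.V₀).reindex (finCongr R.finrank_eq)⟩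
  let e : Basis (Fin (finrank F V)) F V := basisOfTopLeSpanOfCardEqFinrank (fun i => ((b i : R.V₀) : V))
    (by
      rw [← R.span_eq, Submodule.span_le]
      intro v hv
      have hs := congrArg (fun x : R.V₀ => (x : V)) (b.sum_repr ⟨v, hv⟩)
      simp only [AddSubmonoidClass.coe_finsetSum, R.coe_smul] at hs
      rw [SetLike.mem_coe, ← hs]
      exact Submodule.sum_mem _ fun i _ => Submodule.smul_mem _ _ (Submodule.subset_span ⟨i, rfl⟩))
    (Fintype.card_fin _)
  let semi : V → V := fun v => ∑ i, σ (e.repr v i) • e i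
  have hsemifix : ∀ v ∈ R.V₀, semi v = v := by
    intro v hv
    have he : ∀ i, e.repr v i = (b.repr ⟨v, hv⟩ i : F) := fun i => by
      have hs := congrArg (fun x : R.V₀ => (x : V)) (b.sum_repr ⟨v, hv⟩)
      simp only [AddSubmonoidClass.coe_finsetSum, R.coe_smul] at hs
      conv_lhs => rw [← hs]
      rw [show (∑ x, ((b.repr ⟨v, hv⟩) x : F) • ((b x : R.V₀) : V)) = ∑ x, ((b.repr ⟨v, hv⟩) x : F) • e x by
        simp [e, basisOfTopLeSpanOfCardEqFinrank]]
      exact congrFun (e.repr_sum_self _) i
    show ∑ i, σ (e.repr v i) • e i = v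
    conv_rhs => rw [← e.sum_repr v]
    refine Finset.sum_congr rfl fun i _ => ?_
    rw [he i]
    exact congrArg (· • e i) (σ.commutes (b.repr ⟨v, hv⟩ i))
  have hsemiadd : ∀ u v, semi (u + v) = semi u + semi v := fun u v => by
    simp [semi, map_add, add_smul, Finset.sum_add_distrib]
  have hsemismul : ∀ (a : F) v, semi (a • v) = σ a • semi v := fun a v => by
    simp [semi, map_smul, map_mul, Finset.smul_sum, smul_smul]
  have hcomm : ∀ v, (w : V ≃ₗ[F] V) (semi v) = -semi ((w : V ≃ₗ[F] V) v) := by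
    intro v
    have hv : v ∈ Submodule.span F (R.V₀ : Set V) := R.span_eq ▸ Submodule.mem_top
    induction hv using Submodule.span_induction with
    | mem z hz =>
      rw [hsemifix z hz]
      have h1 := hsemifix _ (h z hz)
      rw [hsemismul, map_inv₀, hσc] at h1
      have h3 := congrArg (c • ·) h1
      simp only [smul_smul, mul_inv_cancel₀ hc, one_smul, inv_neg, neg_smul, smul_neg] at h3
      exact h3.symm
    | zero => simp [semi]
    | add p q _ _ hp hq => rw [hsemiadd, map_add, hp, hq, map_add, hsemiadd, neg_add]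
    | smul a p _ hp => rw [hsemismul, map_smul, hp, map_smul, hsemismul, smul_neg]
  have hinj : Function.Injective semi := fun u v huv => e.repr.injective (Finsupp.ext fun i => σ.toRingHom.injective (by
    have := congrArg (fun x => e.repr x i) huv
    simpa [semi, Finsupp.single_apply, map_sum, Finset.sum_ite_eq] using this))
  have hle : ∀ ε : F, σ ε = ε → Nat.card (eig w ε) ≤ Nat.card (eig w (-ε)) := fun ε hε => by
    have : Finite V := Module.finite_of_finite F
    refine Nat.card_le_card_of_injective (fun v => ⟨semi v, mem_eig.2 ?_⟩)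
      fun u v huv => Subtype.ext (hinj (congrArg Subtype.val huv))
    rw [hcomm, mem_eig.1 v.2, hsemismul, hε, neg_smul]
  have h1 := hle 1 (map_one σ)
  have h3 := hle (-1) (by rw [map_neg, map_one])
  rw [neg_neg] at h3
  have heq := le_antisymm h1 h3
  rw [Module.natCard_eq_pow_finrank (K := F), Module.natCard_eq_pow_finrank (K := F) (V := eig w (-1))] at heq
  exact Nat.pow_right_injective Finite.one_lt_card heq

end RatStr

end Cfsg.Agent.H98.SubfieldOrth
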