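import Cfsg.Agent.H98.SubfieldOrth.Points
import Cfsg.Agent.H98.OrthMax.Roots

/-!
A new parameter generates all of Ω.
-/

set_option autoImplicit false

namespace Cfsg.Agent.H98.SubfieldOrth

open QuadraticMap Module Cfsg.Agent.Orthogonal

variable {F V : Type*} [Field F] [Finite F] [AddCommGroup V] [Module F V] [FiniteDimensional F V]
  {Q : QuadraticForm F V} {F₀ : Subfield F}

namespace RatStr

variable (R : RatStr Q F₀)

/-- All rational root elements with parameter `c` lie in `X`. -/
def All (X : Subgroup (O Q)) (c : F) : Prop :=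
  ∀ u w : R.V₀, R.Q₀ u = 0 → R.Q₀ w = 0 → polar R.Q₀ u w = 0 → SIn X (u : V) (c • (w : V))

variable {R} {X : Subgroup (O Q)}

omit [Finite F] [FiniteDimensional F V] in
theorem not_mem_symm {u w : R.V₀} (hu : u ≠ 0) (h : w ∉ Submodule.span F₀ {u}) : u ∉ Submodule.span F₀ {w} := by
  intro h'
  obtain ⟨s, rfl⟩ := Submodule.mem_span_singleton.1 h'
  refine h (Submodule.mem_span_singleton.2 ⟨s⁻¹, inv_smul_smul₀ ?_ w⟩)
  rintro rfl
  exact hu (zero_smul _ _)

variable (hQ : Nondeg Q) (hn : 13 ≤ finrank F V) (hX : R.Over X)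
include hQ hn hX

/-- A parameter at one pair is a parameter at all pairs with the same centre. -/
theorem all_at {c : F} {u w : R.V₀} (hu0 : u ≠ 0) (hu : R.Q₀ u = 0) (hw : R.Q₀ w = 0)
    (huw : polar R.Q₀ u w = 0) (hne : w ∉ Submodule.span F₀ {u}) (h : SIn X (u : V) (c • (w : V))) :
    ∀ x : R.V₀, R.Q₀ x = 0 → polar R.Q₀ u x = 0 → SIn X (u : V) (c • (x : V)) := by
  have := R.finiteDimensional
  have hd0 : finrank F₀ R.V₀ = finrank F V := R.finrank_eq
  obtain ⟨f, -, hf, huf, C, -, hC, hdC, hCu, hCm⟩ :=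
    exists_hyp_at R.nondeg (nondeg_restr_top R.nondeg) (x := u) Submodule.mem_top hu0 hu
  rw [finrank_top] at hdC
  have spread : ∀ w₁ x : R.V₀, x ∈ C → R.Q₀ x = 0 → polar R.Q₀ x w₁ ≠ 0 → SIn X (u : V) (c • (w₁ : V)) →
      SIn X (u : V) (c • (x : V)) := by
    intro w₁ x hxC hx hxw h
    have hx0 : x ≠ 0 := fun h0 => hxw (by rw [h0, polar_zero_left])
    obtain ⟨xf, -, hxf, hxxf, C', hC'le, hC', hdC', hC'x, -⟩ := exists_hyp_at R.nondeg hC hxC hx0 hx
    obtain ⟨x', hx'C, z', hz'C, hx', hz', hx'z', -⟩ := exists_hyp R.nondeg hC' (by omega)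
    have h5 : 5 ≤ finrank F V := by omega
    set β := polar R.Q₀ x w₁
    have h1 := hX.sIn hQ h5 hx (hC'x x' hx'C).1
    have h2 := hX.sIn hQ h5 (u := β⁻¹ • z') (w := x) (by rw [qmap_smul, hz', mul_zero])
      (by rw [polar_smul_left', polar_comm (⇑R.Q₀) z' x, (hC'x z' hz'C).1, mul_zero])
    have hs := h.step h1 h2 (R.sing hx) (R.sing hx') (R.orth (hCu x hxC).1)
      (R.orth (hCu x' (hC'le hx'C)).1) (R.orth (hCu _ (hC'le (C'.smul_mem _ hz'C))).1)
    refine hs.congr rfl ?_
    rw [R.coe_smul, polar_smul_left', polar_comm (⇑Q) (z' : V) (x' : V), R.one hx'z', mul_one, polar_smul_right',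
      ← R.polar_coe, Subfield.coe_inv, mul_assoc,
      mul_inv_cancel₀ (fun h0 => hxw (Subtype.ext h0) : (β : F) ≠ 0), mul_one]
  have red : ∀ x, R.Q₀ x = 0 → polar R.Q₀ u x = 0 →
      x - polar R.Q₀ f x • u ∈ C ∧ R.Q₀ (x - polar R.Q₀ f x • u) = 0 := fun x hx hux =>
    ⟨hCm _ Submodule.mem_top (by simp only [polar_sub_right, polar_smul_right', polar_self', hu, hux]; ring)
      (by simp only [polar_sub_right, polar_smul_right', polar_comm (⇑R.Q₀) f u, huf]; ring),
     by rw [qmap_sub, qmap_smul, polar_smul_right', hx, hu, polar_comm (⇑R.Q₀) x u, hux]; ring⟩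
  obtain ⟨hw'C, hw's⟩ := red w hw huw
  set w' := w - polar R.Q₀ f w • u with hw'
  have hw'0 : w' ≠ 0 := fun h0 => hne
    (by rw [sub_eq_zero] at h0; exact Submodule.mem_span_singleton.2 ⟨_, h0.symm⟩)
  have hw1 : SIn X (u : V) (c • (w' : V)) := by
    refine (h.add_smul (-(c * ((polar R.Q₀ f w : F₀) : F)))).congr rfl ?_
    rw [hw', Submodule.coe_sub, R.coe_smul]
    module
  intro x hx hux
  obtain ⟨hx'C, hx's⟩ := red x hx hux
  set x' := x - polar R.Q₀ f x • u with hx'
  suffices hs : SIn X (u : V) (c • (x' : V)) by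
    refine (hs.add_smul (c * ((polar R.Q₀ f x : F₀) : F))).congr rfl ?_
    rw [hx', Submodule.coe_sub, R.coe_smul]
    module
  rcases eq_or_ne x' 0 with h0 | h0
  · rw [h0, ZeroMemClass.coe_zero, smul_zero]; exact sIn_zero (R.sing hu)
  by_cases hxw : polar R.Q₀ x' w' = 0
  swap
  · exact spread w' x' hx'C hx's hxw hw1
  obtain ⟨⟨m, hmC⟩, hm, hmw, hmx⟩ := exists_common_partner hC (by omega) (u := ⟨w', hw'C⟩) (u' := ⟨x', hx'C⟩)
    (fun e => hw'0 (congrArg Subtype.val e)) (fun e => h0 (congrArg Subtype.val e))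
    (by rw [restr_apply]; exact hw's) (by rw [restr_apply]; exact hx's)
  rw [restr_apply] at hm
  rw [polar_restr] at hmw hmx
  exact spread m x' hx'C hx's hmx (spread w' m hmC hm (by rw [polar_comm]; exact hmw) hw1)

/-- A parameter at one pair is a parameter everywhere. -/
theorem all_of_one {c : F} {u w : R.V₀} (hu0 : u ≠ 0) (hu : R.Q₀ u = 0) (hw : R.Q₀ w = 0)
    (huw : polar R.Q₀ u w = 0) (hne : w ∉ Submodule.span F₀ {u}) (h : SIn X (u : V) (c • (w : V))) :
    R.All X c := by
  have := R.finiteDimensional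
  have hd0 : finrank F₀ R.V₀ = finrank F V := R.finrank_eq
  have hA := all_at hQ hn hX hu0 hu hw huw hne h
  have move : ∀ x y : R.V₀, x ≠ 0 → R.Q₀ x = 0 → R.Q₀ y = 0 → polar R.Q₀ x y = 0 → y ∉ Submodule.span F₀ {x} →
      (∀ z, R.Q₀ z = 0 → polar R.Q₀ x z = 0 → SIn X (x : V) (c • (z : V))) →
      ∀ z, R.Q₀ z = 0 → polar R.Q₀ y z = 0 → SIn X (y : V) (c • (z : V)) := by
    intro x y hx0 hx hy hxy hyx hAx
    have hy0 : y ≠ 0 := fun h0 => hyx (h0 ▸ Submodule.zero_mem _)
    have hswap := ((hAx y hy hxy).swap (R.sing hy) (R.orth hxy)).neg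
    rw [← neg_smul, neg_neg] at hswap
    exact all_at hQ hn hX hy0 hy hx (by rw [polar_comm]; exact hxy) (not_mem_symm hx0 hyx) hswap
  intro x y hx hy hxy
  rcases eq_or_ne x 0 with rfl | hx0
  · rw [ZeroMemClass.coe_zero]; exact sIn_zero_left _
  by_cases hux : polar R.Q₀ u x = 0
  · by_cases hxs : x ∈ Submodule.span F₀ {u}
    swap
    · exact move u x hu0 hu hx hux hxs hA y hy hxy
    obtain ⟨s, rfl⟩ := Submodule.mem_span_singleton.1 hxs
    have hs : s ≠ 0 := fun h0 => hx0 (by rw [h0, zero_smul])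
    have h1 := hA (s • y) (by rw [qmap_smul, hy, mul_zero])
      (by rw [polar_smul_right', ← polar_smul_left']; exact hxy)
    rw [R.coe_smul, smul_comm] at h1
    rw [R.coe_smul]
    exact h1.smul_left (fun h0 => hs (Subtype.ext h0))
  · set x' := (polar R.Q₀ u x)⁻¹ • x with hx'
    have hx's : R.Q₀ x' = 0 := by rw [hx', qmap_smul, hx, mul_zero]
    have hux' : polar R.Q₀ u x' = 1 := by rw [hx', polar_smul_right', inv_mul_cancel₀ hux]
    have h1 := R.nondeg.finrank_hyperbolic_perp hu hx's hux'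
    obtain ⟨⟨m, hmp⟩, hm0, hm⟩ := (R.nondeg.nondeg_hyperbolic_perp hu hx's hux').exists_singular (by omega)
    rw [restr_apply] at hm
    obtain ⟨hum, hx'm⟩ := (mem_perp_span_pair R.Q₀).1 hmp
    have hmx : polar R.Q₀ x m = 0 := by
      rw [hx', polar_smul_left'] at hx'm
      exact (mul_eq_zero.1 hx'm).resolve_left (inv_ne_zero hux)
    have hm0' : m ≠ 0 := fun h0 => hm0 (Subtype.ext h0)
    have hmu : m ∉ Submodule.span F₀ {u} := fun hs => by
      obtain ⟨s, hs'⟩ := Submodule.mem_span_singleton.1 hs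
      rw [← hs', polar_smul_right', polar_comm (⇑R.Q₀) x' u, hux', mul_one] at hx'm
      exact hm0' (by rw [← hs', hx'm, zero_smul])
    have hxm : x ∉ Submodule.span F₀ {m} := fun hs => by
      obtain ⟨s, hs'⟩ := Submodule.mem_span_singleton.1 hs
      exact hux (by rw [← hs', polar_smul_right', hum, mul_zero])
    exact move m x hm0' hm hx (by rw [polar_comm]; exact hmx) hxm (move u m hu0 hu hm hum hmu hA) y hy hxy

omit [Finite F] [FiniteDimensional F V] hQ hn hX in
theorem All.add {a b : F} (ha : R.All X a) (hb : R.All X b) : R.All X (a + b) := fun u w hu hw huw =>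
  ((ha u w hu hw huw).add (hb u w hu hw huw)).congr rfl (add_smul _ _ _).symm

/-- Products of parameters. -/
theorem All.mul {a b : F} (ha : R.All X a) (hb : R.All X b) : R.All X (a * b) := by
  have := R.finiteDimensional
  have hd0 : finrank F₀ R.V₀ = finrank F V := R.finrank_eq
  have h5 : 5 ≤ finrank F V := by omega
  obtain ⟨u, -, f, -, hu, hf, huf, hu0, C, -, hC, hdC, hCu⟩ :=
    exists_hyp R.nondeg (nondeg_restr_top R.nondeg) (by rw [finrank_top]; omega)
  rw [finrank_top] at hdC
  obtain ⟨x, hxC, z, hzC, hx, hz, hxz, hx0, C', hC'le, hC', hdC', hC'x⟩ := exists_hyp R.nondeg hC (by omega)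
  obtain ⟨y, hyC, y', hy'C, hy, hy', hyy', -⟩ := exists_hyp R.nondeg hC' (by omega)
  have h2 := hX.sIn hQ h5 hy' (show polar R.Q₀ y' x = 0 by rw [polar_comm]; exact (hC'x y' hy'C).1)
  have hs := (ha u z hu hz (hCu z hzC).1).step (hb x y hx hy (hC'x y hyC).1) h2 (R.sing hx)
    (by rw [qmap_smul, R.sing hy, mul_zero]) (R.orth (hCu x hxC).1)
    (by rw [polar_smul_right', R.orth (hCu y (hC'le hyC)).1, mul_zero]) (R.orth (hCu y' (hC'le hy'C)).1)
  rw [polar_smul_right', R.one hxz, mul_one, polar_smul_right', polar_comm (⇑Q) (y' : V) (y : V), R.one hyy',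
    mul_one] at hs
  refine all_of_one hQ hn hX hu0 hu hx (hCu x hxC).1 (fun h => ?_) hs
  obtain ⟨s, hs'⟩ := Submodule.mem_span_singleton.1 h
  rw [← hs', polar_smul_left', (hCu z hzC).1, mul_zero] at hxz
  exact zero_ne_one hxz

/-- The parameters contain the rational ones. -/
theorem all_rat {a : F} (ha : a ∈ F₀) : R.All X a := fun u w hu _ huw => by
  have := hX.sIn hQ (by omega) (u := u) (w := (⟨a, ha⟩ : F₀) • w) hu (by rw [polar_smul_right', huw, mul_zero])
  exact this

/-- A new parameter gives all the parameters when `F₀` is maximal in `F`. -/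
theorem all_all (hmax : ∀ K : Subfield F, F₀ ≤ K → K = F₀ ∨ K = ⊤) (hT : ¬ R.NoNew X) (c : F) : R.All X c := by
  have := Fintype.ofFinite F
  simp only [NoNew, not_forall] at hT
  obtain ⟨a, u, w, hu0, hu, hw, huw, hne, hs, haF⟩ := hT
  have hpow : ∀ (x : F), R.All X x → ∀ k : ℕ, R.All X (x ^ k) := fun x hx k => by
    induction k with
    | zero => rw [pow_zero]; exact all_rat hQ hn hX F₀.one_mem
    | succ k ih => rw [pow_succ]; exact All.mul hQ hn hX ih hx
  let K : Subfield F :=
    { carrier := {x | R.All X x}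
      mul_mem' := fun ha hb => All.mul hQ hn hX ha hb
      one_mem' := all_rat hQ hn hX F₀.one_mem
      add_mem' := fun ha hb => ha.add hb
      zero_mem' := all_rat hQ hn hX F₀.zero_mem
      neg_mem' := fun {x} hx u w hu hw huw => ((hx u w hu hw huw).neg).congr rfl (neg_smul _ _).symm
      inv_mem' := fun x hx => by
        rcases eq_or_ne x 0 with rfl | hx0
        · rw [inv_zero]; exact all_rat hQ hn hX F₀.zero_mem
        rw [inv_eq_of_mul_eq_one_left (a := x ^ (Fintype.card F - 2)) (b := x)]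
        · exact hpow x hx _
        · rw [← pow_succ, show Fintype.card F - 2 + 1 = Fintype.card F - 1 by
            have := Fintype.one_lt_card (α := F); omega, FiniteField.pow_card_sub_one_eq_one x hx0] }
  rcases hmax K fun x hx => all_rat hQ hn hX hx with h | h
  · exact absurd (h ▸ all_of_one hQ hn hX hu0 hu hw huw hne hs : a ∈ F₀) haF
  · exact (h ▸ Subfield.mem_top c : c ∈ K)

/-- A new parameter generates Ω. -/
theorem sieGroup_le_of_new (hmax : ∀ K : Subfield F, F₀ ≤ K → K = F₀ ∨ K = ⊤) (hT : ¬ R.NoNew X) :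
    sieGroup Q ≤ X := by
  have := R.finiteDimensional
  have hd0 : finrank F₀ R.V₀ = finrank F V := R.finrank_eq
  have hall := all_all hQ hn hX hmax hT
  have hfull : ∀ u : R.V₀, u ≠ 0 → R.Q₀ u = 0 → OrthMax.Full X (u : V) := by
    intro u hu0 hu
    obtain ⟨f, -, hf, huf, C, -, hC, hdC, hCu, hCm⟩ :=
      exists_hyp_at R.nondeg (nondeg_restr_top R.nondeg) (x := u) Submodule.mem_top hu0 hu
    rw [finrank_top] at hdC
    let S : Submodule F₀ R.V₀ :=
      { carrier := {x | ∀ a : F, SIn X (u : V) (a • (x : V))}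
        add_mem' := fun hx hy a => by rw [Submodule.coe_add, smul_add]; exact (hx a).add (hy a)
        zero_mem' := fun a => by rw [ZeroMemClass.coe_zero, smul_zero]; exact sIn_zero (R.sing hu)
        smul_mem' := fun s x hx a => by rw [R.coe_smul, smul_smul]; exact hx _ }
    have hCS : C ≤ S := le_of_singular hC (by omega) S fun x hxC hx a => hall a u x hu hx (hCu x hxC).1
    let π : V → V := fun v => v - polar Q (f : V) v • (u : V) - polar Q (u : V) v • (f : V)
    have hπ : ∀ v, ∀ a : F, SIn X (u : V) (a • π v) := by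
      intro v
      have hv : v ∈ Submodule.span F (R.V₀ : Set V) := R.span_eq ▸ Submodule.mem_top
      induction hv using Submodule.span_induction with
      | mem z hz =>
        intro a
        refine ((hCS (hCm (⟨z, hz⟩ - polar R.Q₀ f ⟨z, hz⟩ • u - polar R.Q₀ u ⟨z, hz⟩ • f) Submodule.mem_top
          ?_ ?_)) a).congr rfl ?_
        · simp only [polar_sub_right, polar_smul_right', polar_self', hu, huf]; ring
        · simp only [polar_sub_right, polar_smul_right', polar_self', hf, polar_comm (⇑R.Q₀) f u, huf]; ring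
        · simp only [π, Submodule.coe_sub, R.coe_smul, R.polar_coe]
      | zero => intro a; simp only [π, polar_zero_right, zero_smul, sub_zero, smul_zero]; exact sIn_zero (R.sing hu)
      | add b d _ _ hb hd =>
        intro a
        refine ((hb a).add (hd a)).congr rfl ?_
        simp only [π, polar_add_right]
        module
      | smul s b _ hb =>
        intro a
        refine (hb (a * s)).congr rfl ?_
        simp only [π, polar_smul_right']
        module
    intro w hu' hw
    have h := ((hπ w 1).add_smul (polar Q (f : V) w)).congr (w' := w) rfl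
      (by simp only [π, hw, one_smul, zero_smul, sub_zero]; abel)
    exact h.2.2
  obtain ⟨u, -, f, -, hu, hf, huf, hu0, -⟩ :=
    exists_hyp R.nondeg (nondeg_restr_top R.nondeg) (by rw [finrank_top]; omega)
  have hf0 : f ≠ 0 := fun h => by rw [h, polar_zero_right] at huf; exact zero_ne_one huf
  exact OrthMax.sieGroup_le_of_pair hQ (by omega) (hfull u hu0 hu) (hfull f hf0 hf) (R.sing hu) (R.sing hf)
    (by rw [R.one huf]; exact one_ne_zero)

end RatStr

end Cfsg.Agent.H98.SubfieldOrth
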